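import Cfsg.Agent.LyRec.Cover
import Cfsg.Agent.LyLocal.Fusion
import Cfsg.Agent.Invol.ZStar
import Cfsg.Agent.Invol.Count

/-!
The identification of the involution centraliser with the double cover in the presented Lyons group,
fusion of involutions, and the element exchanging the two marked involutions.
-/

set_option autoImplicit false
set_option maxRecDepth 100000

namespace Cfsg.Agent.LyRec

open Cfsg Cfsg.Agent.LyLocal Cfsg.Agent.Invol

/-- The second marked involution of the model. -/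
def uu : P := el 22

variable [IsSimpleGroup P]

theorem uu_facts : uu ∈ DD ∧ uu * uu = 1 ∧ uu ≠ 1 ∧ uu ≠ tt ∧
    ∃ d ∈ DD, d * uu * d⁻¹ = uu * tt := by
  obtain ⟨hq, hpq⟩ := liftW_spec (repWord true)
  have he : el 22 = liftW (repWord true) := el_sg_eq.2.2.2
  have hg : el 24 * tt = el 22 * el 24 := by simpa [elW, tt] using eq_of_same gConj
  have hu : uu = el 24 * tt * (el 24)⁻¹ := by rw [hg, mul_inv_cancel_right]; rfl
  have hD : uu ∈ DD := by rw [uu, he]; exact hq
  have hne : uu ≠ 1 := fun e => tt_ne (conj_eq_one_iff.1 (hu ▸ e))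
  have hnt : uu ≠ tt := by
    intro e
    have h1 : proj ⟨uu, hD⟩ = 1 := (proj_one _).2 (Or.inr e)
    have h2 : proj ⟨uu, hD⟩ = altW (repWord true) := by
      rw [← hpq]; exact congrArg proj (Subtype.ext he)
    exact (rep_facts true).1 (h2.symm.trans h1)
  refine ⟨hD, ?_, hne, hnt, el 15 * el 14,
    mul_mem (xl_eq 3 ▸ lifts.E_mem _) (xl_eq 2 ▸ lifts.E_mem _), ?_⟩
  · rw [hu, conj_mul, tt_sq, mul_one, mul_inv_cancel]
  · have hdw : el 15 * el 14 * el 22 = el 22 * tt * (el 15 * el 14) := by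
      simpa [elW, tt, mul_assoc] using eq_of_same dConj
    rw [uu, hdw, mul_inv_cancel_right]

/-- The involutions of the cover. -/
theorem invol_DD {x : P} (hx : x ∈ DD) (h2 : x * x = 1) :
    x = 1 ∨ x = tt ∨ ∃ c ∈ DD, c * uu * c⁻¹ = x := by
  by_cases h1 : x = 1
  · exact Or.inl h1
  by_cases hxt : x = tt
  · exact Or.inr (Or.inl hxt)
  right; right
  have hb1 : proj ⟨x, hx⟩ ≠ 1 := fun h => ((proj_one _).1 h).elim h1 hxt
  have hb2 : proj ⟨x, hx⟩ * proj ⟨x, hx⟩ = 1 := by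
    rw [← map_mul, show (⟨x, hx⟩ * ⟨x, hx⟩ : DD) = 1 from Subtype.ext h2, map_one]
  obtain ⟨b, hb⟩ := invol_conj hb1 hb2
  obtain ⟨c, hc⟩ := isConj_iff.1 hb
  obtain ⟨⟨d, hd⟩, rfl⟩ := proj_surj c
  obtain ⟨hq, hpq⟩ := liftW_spec (repWord b)
  have hgx : proj ⟨x, hx⟩ = proj (⟨d, hd⟩ * ⟨liftW (repWord b), hq⟩ * ⟨d, hd⟩⁻¹) := by
    rw [map_mul, map_mul, map_inv, hpq, hc]
  have hxe : x = d * liftW (repWord b) * d⁻¹ ∨ x = d * liftW (repWord b) * d⁻¹ * tt := eq_or_of_proj hgx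
  cases b with
  | false =>
    exfalso
    have hsq : liftW (repWord false) * liftW (repWord false) = tt := by
      have := eq_of_same sq0_1
      simpa [elW, liftW, repWord, tt, mul_assoc] using this
    set y := d * liftW (repWord false) * d⁻¹ with hy
    have hyy : y * y = tt := by
      rw [hy, conj_mul, hsq, tt_central hd, mul_inv_cancel_right]
    have hyt : Commute y tt := tt_central (mul_mem (mul_mem hd hq) (inv_mem hd))
    refine tt_ne ?_
    rw [← h2]
    rcases hxe with e | e <;> rw [e]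
    · exact hyy.symm
    · rw [hyt.symm.mul_mul_mul_comm, hyy, tt_sq, mul_one]
  | true =>
    rw [← el_sg_eq.2.2.2] at hxe
    rcases hxe with e | e
    · exact ⟨d, hd, e.symm⟩
    · obtain ⟨-, -, -, -, d', hd', he'⟩ := uu_facts
      refine ⟨d * d', mul_mem hd hd', ?_⟩
      calc d * d' * uu * (d * d')⁻¹ = d * (d' * uu * d'⁻¹) * d⁻¹ := by group
        _ = d * uu * d⁻¹ * (d * tt * d⁻¹) := by rw [he']; group
        _ = x := by rw [tt_central hd, mul_inv_cancel_right, e]; rfl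

/-- Lifts of the products of four transpositions are the noncentral involutions. -/
theorem invol_of_proj {y : P} (hy : y ∈ DD) (h2 : proj ⟨y, hy⟩ * proj ⟨y, hy⟩ = 1)
    (hs : ((proj ⟨y, hy⟩ : A11) : Equiv.Perm (Fin 11)).support.card = 8) :
    y * y = 1 ∧ y ≠ 1 ∧ y ≠ tt := by
  have h1 : proj ⟨y, hy⟩ ≠ 1 := fun h => by rw [h] at hs; simp at hs
  refine ⟨?_, fun h => h1 ((proj_one _).2 (Or.inl h)), fun h => h1 ((proj_one _).2 (Or.inr h))⟩
  obtain ⟨b, hb⟩ := invol_conj h1 h2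
  obtain ⟨c, hc⟩ := isConj_iff.1 hb
  obtain ⟨⟨d, hd⟩, rfl⟩ := proj_surj c
  obtain ⟨hq, hpq⟩ := liftW_spec (repWord b)
  have hb' : b = true := by
    have hcard : ((altW (repWord b) : A11) : Equiv.Perm (Fin 11)).support.card = 8 := by
      rw [← hs, ← hc, Subgroup.coe_mul, Subgroup.coe_mul, Subgroup.coe_inv,
        Equiv.Perm.card_support_conj]
    rw [(rep_facts b).2.2] at hcard
    cases b <;> simp_all
  subst hb'
  obtain ⟨hD, hu2, -, -, -⟩ := uu_facts
  have hyd : y = d * uu * d⁻¹ ∨ y = d * uu * d⁻¹ * tt := by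
    have hgx : proj ⟨y, hy⟩ = proj (⟨d, hd⟩ * ⟨liftW (repWord true), hq⟩ * ⟨d, hd⟩⁻¹) := by
      rw [map_mul, map_mul, map_inv, hpq, hc]
    rw [uu, el_sg_eq.2.2.2]
    exact eq_or_of_proj hgx
  have hdu : d * uu * d⁻¹ * (d * uu * d⁻¹) = 1 := by
    rw [conj_mul, hu2, mul_one, mul_inv_cancel]
  rcases hyd with rfl | rfl
  · exact hdu
  · have hct : Commute (d * uu * d⁻¹) tt := tt_central (mul_mem (mul_mem hd hD) (inv_mem hd))
    rw [hct.symm.mul_mul_mul_comm, hdu, tt_sq, mul_one]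

section

variable {G : Type*} [Group G]

/-- An identification of the centraliser of `t` with the double cover. -/
structure Setting (G : Type*) [Group G] where
  t : G
  ord : orderOf t = 2
  f : DD →* G
  inj : Function.Injective f
  range : f.range = Subgroup.centralizer {t}
  map_t : f ⟨tt, lifts.t_mem five_le eleven_ne⟩ = t

open Classical in
/-- The identification as a function on the presented group. -/
noncomputable def Setting.fP (S : Setting G) (x : P) : G :=
  if hx : x ∈ DD then S.f ⟨x, hx⟩ else 1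

variable (S : Setting G)

theorem fP_eq {x : P} (hx : x ∈ DD) : S.fP x = S.f ⟨x, hx⟩ := dif_pos hx

theorem fP_mul {x y : P} (hx : x ∈ DD) (hy : y ∈ DD) : S.fP (x * y) = S.fP x * S.fP y := by
  rw [fP_eq S hx, fP_eq S hy, fP_eq S (mul_mem hx hy), ← map_mul]; rfl

theorem fP_inv {x : P} (hx : x ∈ DD) : S.fP x⁻¹ = (S.fP x)⁻¹ := by
  rw [fP_eq S hx, fP_eq S (inv_mem hx), ← map_inv]; rfl

theorem fP_one : S.fP 1 = 1 := by rw [fP_eq S DD.one_mem]; exact map_one _

theorem fP_conj {c x : P} (hc : c ∈ DD) (hx : x ∈ DD) :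
    S.fP (c * x * c⁻¹) = S.fP c * S.fP x * (S.fP c)⁻¹ := by
  rw [fP_mul S (mul_mem hc hx) (inv_mem hc), fP_mul S hc hx, fP_inv S hc]

theorem fP_inj {x y : P} (hx : x ∈ DD) (hy : y ∈ DD) (h : S.fP x = S.fP y) : x = y := by
  rw [fP_eq S hx, fP_eq S hy] at h
  exact congrArg Subtype.val (S.inj h)

theorem fP_tt : S.fP tt = S.t := (fP_eq S (lifts.t_mem five_le eleven_ne)).trans S.map_t

theorem fP_mem {x : P} (hx : x ∈ DD) : S.fP x ∈ Subgroup.centralizer ({S.t} : Set G) := by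
  rw [← S.range, fP_eq S hx]; exact ⟨_, rfl⟩

theorem fP_comm {x : P} (hx : x ∈ DD) : S.fP x * S.t = S.t * S.fP x :=
  Subgroup.mem_centralizer_singleton_iff.1 (fP_mem S hx)

theorem exists_fP {g : G} (h : g * S.t = S.t * g) : ∃ x ∈ DD, S.fP x = g := by
  obtain ⟨⟨x, hx⟩, e⟩ : g ∈ S.f.range := S.range ▸ Subgroup.mem_centralizer_singleton_iff.2 h
  exact ⟨x, hx, (fP_eq S hx).trans e⟩

/-- The second marked involution. -/
noncomputable def Setting.u : G := S.fP uu

theorem u_order : orderOf S.u = 2 := by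
  obtain ⟨hD, h2, h1, -, -⟩ := uu_facts
  refine orderOf_eq_prime ?_ fun e => h1 (fP_inj S hD DD.one_mem (e.trans (fP_one S).symm))
  rw [pow_two, Setting.u, ← fP_mul S hD hD, h2, fP_one]

theorem u_ne_t : S.u ≠ S.t := fun e =>
  uu_facts.2.2.2.1 (fP_inj S uu_facts.1 (lifts.t_mem five_le eleven_ne) (e.trans (fP_tt S).symm))

theorem u_comm : S.u * S.t = S.t * S.u := fP_comm S uu_facts.1

/-- The commuting involutions are `t` and the conjugates of `u`. -/
theorem invol_cases {i : G} (hi : orderOf i = 2) (hc : i * S.t = S.t * i) :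
    i = S.t ∨ ∃ c ∈ DD, S.fP c * S.u * (S.fP c)⁻¹ = i := by
  obtain ⟨x, hx, rfl⟩ := exists_fP S hc
  have h2 : x * x = 1 := fP_inj S (mul_mem hx hx) DD.one_mem
    (by rw [fP_mul S hx hx, fP_one, Invol.mul_self_eq_one hi])
  rcases invol_DD hx h2 with h | h | ⟨c, hc', h⟩
  · exact absurd (by rw [h, fP_one]) (Invol.ne_one hi)
  · exact Or.inl (h ▸ fP_tt S)
  · exact Or.inr ⟨c, hc', by rw [Setting.u, ← fP_conj S hc' uu_facts.1, h]⟩

/-- An element of the centraliser moving `u` to `u t`. -/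
theorem exists_shift : ∃ d ∈ DD, S.fP d * S.u * (S.fP d)⁻¹ = S.u * S.t := by
  obtain ⟨hD, -, -, -, d, hd, he⟩ := uu_facts
  refine ⟨d, hd, ?_⟩
  rw [Setting.u, ← fP_conj S hd hD, he,
    fP_mul S hD (show tt ∈ DD from lifts.t_mem five_le eleven_ne), fP_tt]

/-- The identification as an isomorphism onto the centraliser. -/
noncomputable def Setting.e : DD ≃* Subgroup.centralizer ({S.t} : Set G) :=
  (MonoidHom.ofInjective S.inj).trans (MulEquiv.subgroupCongr S.range)

theorem e_apply (x : DD) : ((S.e x : Subgroup.centralizer ({S.t} : Set G)) : G) = S.f x := rfl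

variable [Finite G]

theorem isConj_t_u [IsSimpleGroup G] : IsConj S.t S.u := by
  by_contra hv
  have hiso : Cfsg.IsIsolatedInvolution S.t := by
    refine ⟨S.ord, fun g hg => ?_⟩
    rcases invol_cases S (by rw [Invol.orderOf_conj, S.ord]) hg.eq.symm with h | ⟨c, -, h⟩
    · exact h
    · exact absurd ((isConj_iff.2 ⟨g, rfl⟩).trans (isConj_iff.2 ⟨S.fP c, h⟩ : IsConj S.u _).symm) hv
  have hO : Cfsg.oddCore G = ⊥ := by
    rcases (inferInstance : IsSimpleGroup G).eq_bot_or_eq_top_of_normal (Cfsg.oddCore G)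
      inferInstance with h | h
    · exact h
    · exfalso
      have hc : (Nat.card (Cfsg.oddCore G)).Coprime 2 := Core.coprime_card_pPrimeCore (p := 2)
      rw [h, Subgroup.card_top] at hc
      exact Nat.not_coprime_of_dvd_of_dvd (le_refl 2) (S.ord ▸ orderOf_dvd_natCard S.t) dvd_rfl hc
  have hcomm : ∀ g : G, g * S.t = S.t * g := fun g => by
    have h := Invol.zstar hiso g
    rw [hO, Subgroup.mem_bot, mul_inv_eq_one, mul_inv_eq_iff_eq_mul] at h
    exact h.symm
  obtain ⟨d, -, hd⟩ := exists_shift S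
  refine u_ne_t S ?_
  rcases (inferInstance : IsSimpleGroup G).eq_bot_or_eq_top_of_normal (Subgroup.center G)
      inferInstance with h | h
  · exact absurd (Subgroup.mem_bot.1 (h ▸ Subgroup.mem_center_iff.2 hcomm)) (Invol.ne_one S.ord)
  · have hu : ∀ g, g * S.u = S.u * g := Subgroup.mem_center_iff.1 (h ▸ Subgroup.mem_top _)
    rw [hu, mul_inv_cancel_right, left_eq_mul] at hd
    exact absurd hd (Invol.ne_one S.ord)

/-- All involutions of `G` are conjugate. -/
theorem isConj_t [IsSimpleGroup G] {i : G} (hi : orderOf i = 2) : IsConj S.t i := by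
  have hC : ∀ i : G, orderOf i = 2 → i * S.t = S.t * i → IsConj S.t i := fun i hi hc => by
    rcases invol_cases S hi hc with h | ⟨c, -, h⟩
    · rw [h]
    · exact (isConj_t_u S).trans (isConj_iff.2 ⟨S.fP c, h⟩)
  by_contra hne
  obtain ⟨z, hz2, hz⟩ : ∃ z : G, orderOf z = 2 ∧ Commute z S.t ∧ Commute z i := by
    obtain ⟨-, z, hz, h1, h2, -⟩ := Invol.exists_central_of_not_isConj S.ord hi hne
    exact ⟨z, hz, h1, h2⟩
  obtain ⟨g, hg⟩ := isConj_iff.1 (hC z hz2 hz.1.eq).symm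
  have hi' : orderOf (g * i * g⁻¹) = 2 := by rw [Invol.orderOf_conj, hi]
  have hcomm : g * i * g⁻¹ * S.t = S.t * (g * i * g⁻¹) := by
    rw [← hg]
    exact ((Commute.conj_iff g).2 hz.2.symm).eq
  exact hne ((hC _ hi' hcomm).trans (isConj_iff.2 ⟨g, rfl⟩).symm)

/-- An element exchanging `t` and `u`. -/
theorem exists_swap [IsSimpleGroup G] :
    ∃ x : G, x * S.t * x⁻¹ = S.u ∧ x * S.u * x⁻¹ = S.t := by
  obtain ⟨g, hg⟩ := isConj_iff.1 (isConj_t_u S).symm
  have hne : g * S.t * g⁻¹ ≠ S.t := fun e =>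
    u_ne_t S (MulAut.conj g |>.injective (show g * S.u * g⁻¹ = g * S.t * g⁻¹ by rw [hg, e]))
  have hcomm : g * S.t * g⁻¹ * S.t = S.t * (g * S.t * g⁻¹) := by
    have h := ((Commute.conj_iff g).2 (u_comm S).symm).eq
    rw [hg] at h
    exact h
  obtain ⟨c, hc, he⟩ :=
    (invol_cases S (by rw [Invol.orderOf_conj, S.ord]) hcomm).resolve_left hne
  refine ⟨(S.fP c)⁻¹ * g, ?_, ?_⟩
  · calc (S.fP c)⁻¹ * g * S.t * ((S.fP c)⁻¹ * g)⁻¹
        = (S.fP c)⁻¹ * (g * S.t * g⁻¹) * S.fP c := by group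
      _ = S.u := by rw [← he]; group
  · calc (S.fP c)⁻¹ * g * S.u * ((S.fP c)⁻¹ * g)⁻¹
        = (S.fP c)⁻¹ * (g * S.u * g⁻¹) * S.fP c := by group
      _ = (S.fP c)⁻¹ * (S.t * S.fP c) := by rw [hg]; group
      _ = S.t := by rw [← fP_comm S hc]; group

/-- Any noncentral involution of the cover is exchanged with `t`. -/
theorem exists_swap_of [IsSimpleGroup G] {y : P} (hy : y ∈ DD) (h2 : y * y = 1) (h1 : y ≠ 1)
    (ht : y ≠ tt) : ∃ x : G, x * S.t * x⁻¹ = S.fP y ∧ x * S.fP y * x⁻¹ = S.t := by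
  obtain ⟨c, hc, he⟩ := ((invol_DD hy h2).resolve_left h1).resolve_left ht
  obtain ⟨x, ha, hb⟩ := exists_swap S
  have hy' : S.fP y = S.fP c * S.u * (S.fP c)⁻¹ := by
    rw [← he, fP_conj S hc uu_facts.1]; rfl
  have hct : S.fP c * S.t * (S.fP c)⁻¹ = S.t := by
    rw [fP_comm S hc, mul_inv_cancel_right]
  have hct' : (S.fP c)⁻¹ * S.t * S.fP c = S.t := by
    rw [mul_assoc, ← fP_comm S hc, inv_mul_cancel_left]
  refine ⟨S.fP c * x * (S.fP c)⁻¹, ?_, ?_⟩
  · rw [hy', ← ha]
    calc S.fP c * x * (S.fP c)⁻¹ * S.t * (S.fP c * x * (S.fP c)⁻¹)⁻¹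
        = S.fP c * (x * ((S.fP c)⁻¹ * S.t * S.fP c) * x⁻¹) * (S.fP c)⁻¹ := by group
      _ = _ := by rw [hct']
  · rw [hy']
    calc S.fP c * x * (S.fP c)⁻¹ * (S.fP c * S.u * (S.fP c)⁻¹) * (S.fP c * x * (S.fP c)⁻¹)⁻¹
        = S.fP c * (x * S.u * x⁻¹) * (S.fP c)⁻¹ := by group
      _ = S.t := by rw [hb, hct]

end

theorem exists_setting {G : Type*} [Group G] [Finite G] (t : G) (ht : orderOf t = 2)
    (hcov : Cfsg.IsNonsplitDoubleCover (Subgroup.centralizer ({t} : Set G)) (alternatingGroup (Fin 11))) :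
    ∃ S : Setting G, S.t = t := by
  classical
  have : Finite DD := lifts.grp_finite five_le eleven_ne
  obtain ⟨e⟩ := cover_iso (lifts.nonsplit five_le eleven_ne) hcov
  let C := Subgroup.centralizer ({t} : Set G)
  let t' : C := ⟨t, Subgroup.mem_centralizer_singleton_iff.2 rfl⟩
  let z : DD := ⟨tt, lifts.t_mem five_le eleven_ne⟩
  have hz : z ∈ Subgroup.center DD :=
    Subgroup.mem_center_iff.2 fun b => Subtype.ext (lifts.t_central b.2)
  have hez : e z ∈ Subgroup.center C := Subgroup.mem_center_iff.2 fun b => by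
    obtain ⟨a, rfl⟩ := e.surjective b
    rw [← map_mul, ← map_mul, Subgroup.mem_center_iff.1 hz a]
  have ht' : t' ∈ Subgroup.center C :=
    Subgroup.mem_center_iff.2 fun b => Subtype.ext (Subgroup.mem_centralizer_singleton_iff.1 b.2)
  have h1 : (⟨t', ht'⟩ : Subgroup.center C) ≠ 1 := fun h =>
    Invol.ne_one ht (congrArg (fun g : Subgroup.center C => ((g : C) : G)) h)
  have h2 : (⟨e z, hez⟩ : Subgroup.center C) ≠ 1 := fun h => tt_ne (congrArg Subtype.val
    ((EmbeddingLike.map_eq_one_iff (f := e)).1 (congrArg Subtype.val h)))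
  have he : e z = t' := congrArg Subtype.val
    (((Nat.card_eq_two_iff' (1 : Subgroup.center C)).1 hcov.1).unique h2 h1)
  refine ⟨⟨t, ht, C.subtype.comp e.toMonoidHom, C.subtype_injective.comp e.injective, ?_, ?_⟩, rfl⟩
  · rw [MonoidHom.range_comp, MonoidHom.range_eq_top.2 e.surjective, ← MonoidHom.range_eq_map,
      Subgroup.range_subtype]
  · show ((e z : C) : G) = t
    rw [he]

end Cfsg.Agent.LyRec
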