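import Cfsg.Agent.LyRec.Conf

/-!
The amalgam of the double cover and one involution, and the homomorphism it gives from the presented
Lyons group once its order is bounded.
-/

set_option autoImplicit false

namespace Cfsg.Agent.LyRec

open Cfsg Cfsg.Agent.LyLocal

/-- A lift among the letters of the amalgam. -/
def aE (i : Fin 9) : FreeGroup (Fin 10) := FreeGroup.of i.castSucc

/-- The extra involution of the amalgam. -/
def aX : FreeGroup (Fin 10) := FreeGroup.of (Fin.last 9)

/-- A word in the lifts. -/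
def aW (w : List (Fin 9)) : FreeGroup (Fin 10) := (w.map aE).prod

/-- The central involution of the amalgam. -/
def aT : FreeGroup (Fin 10) := aW [0, 1, 0, 1]

/-- The relations of the amalgam for the true automorphism. -/
def amRels : Set (FreeGroup (Fin 10)) :=
  (Set.range fun i => aE i ^ 3) ∪
    {r | ∃ i j, i ≠ j ∧ r = (aE i * aE j) ^ 2 * aT⁻¹} ∪
    (Set.range fun i => aT * aE i * aT⁻¹ * (aE i)⁻¹) ∪
    {aT * aT, aX * aX} ∪
    (Set.range fun k => aX * aW (Alpha.gen k) * aX * (aW (Alpha.img 2 k))⁻¹) ∪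
    (Set.range fun r => aX * aW (relG 2 r) * aX * aW (relH 2 r) * aX * (aW (relY 2 r))⁻¹)

/-- The amalgam. -/
abbrev Am : Type := PresentedGroup amRels

/-- A lift in the amalgam. -/
def amE (i : Fin 9) : Am := PresentedGroup.of i.castSucc

/-- The extra involution in the amalgam. -/
def amX : Am := PresentedGroup.of (Fin.last 9)

section

variable {K : Type*} [Group K]

theorem lift_aW (v : Fin 10 → K) (w : List (Fin 9)) :
    FreeGroup.lift v (aW w) = (w.map fun i => v i.castSucc).prod := by
  rw [aW, map_list_prod, List.map_map]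
  congr 1
  exact List.map_congr_left fun i _ => FreeGroup.lift_apply_of

/-- Elements satisfying the relations give a homomorphism on the amalgam. -/
theorem exists_amHom (e : Fin 9 → K) (x z : K) (hz : ([0, 1, 0, 1].map e).prod = z)
    (z_sq : z * z = 1) (z_comm : ∀ i, Commute z (e i)) (cube : ∀ i, e i ^ 3 = 1)
    (prod_sq : ∀ i j, i ≠ j → (e i * e j) ^ 2 = z) (sq : x * x = 1)
    (conj : ∀ k, x * ((Alpha.gen k).map e).prod * x = ((Alpha.img 2 k).map e).prod)
    (rel : ∀ r, x * ((relG 2 r).map e).prod * x * ((relH 2 r).map e).prod * x =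
      ((relY 2 r).map e).prod) :
    ∃ φ : Am →* K, (∀ i, φ (amE i) = e i) ∧ φ amX = x := by
  let v : Fin 10 → K := Fin.snoc e x
  have hE : ∀ i, FreeGroup.lift v (aE i) = e i := fun i => by
    rw [aE, FreeGroup.lift_apply_of]; exact Fin.snoc_castSucc (α := fun _ => K) x e i
  have hX : FreeGroup.lift v aX = x := by
    rw [aX, FreeGroup.lift_apply_of]; exact Fin.snoc_last (α := fun _ => K) x e
  have hW : ∀ w, FreeGroup.lift v (aW w) = (w.map e).prod := fun w => by
    rw [lift_aW]
    exact congrArg List.prod (List.map_congr_left fun i _ => Fin.snoc_castSucc (α := fun _ => K) x e i)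
  have hT : FreeGroup.lift v aT = z := (hW _).trans hz
  have hr : ∀ r ∈ amRels, FreeGroup.lift v r = 1 := by
    rintro r (((((⟨i, rfl⟩ | ⟨i, j, hij, rfl⟩) | ⟨i, rfl⟩) | hr) | ⟨k, rfl⟩) | ⟨k, rfl⟩)
    · simp [hE, cube]
    · simp [hE, hT, prod_sq i j hij]
    · simp only [map_mul, map_inv, hE, hT, (z_comm i).eq, mul_inv_cancel_right, mul_inv_cancel]
    · rcases hr with rfl | rfl
      · simp [hT, z_sq]
      · simp [hX, sq]
    · simp only [map_mul, map_inv, hX, hW, conj k, mul_inv_cancel]
    · simp only [map_mul, map_inv, hX, hW, rel k, mul_inv_cancel]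
  refine ⟨PresentedGroup.toGroup hr, fun i => ?_, ?_⟩
  · rw [amE, PresentedGroup.toGroup.of]; exact Fin.snoc_castSucc (α := fun _ => K) x e i
  · rw [amX, PresentedGroup.toGroup.of]; exact Fin.snoc_last (α := fun _ => K) x e

end

variable [IsSimpleGroup P]

theorem el_tt : ([0, 1, 0, 1].map fun i : Fin 9 => el (12 + i.val)).prod = tt := by
  have h := xx_sq 0 1 (by norm_num) (by norm_num) (by norm_num)
  simpa [pow_two, mul_assoc] using h

/-- The lifts relabelled by the outer automorphism. -/
def odEl (i : Fin 9) : P := el (12 + (Alpha.odL i).val)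

theorem odL_inj : Function.Injective Alpha.odL := by decide

theorem amX_sq : amX * amX = 1 := by
  show PresentedGroup.mk amRels (aX * aX) = 1
  exact PresentedGroup.one_of_mem (Or.inl (Or.inl (Or.inr (Or.inr rfl))))

variable {G : Type*} [Group G]

theorem fP_list (S : Setting G) (w : List (Fin 9)) :
    S.word w = (w.map fun i => S.fP (el (12 + i.val))).prod ∧ liftW w ∈ DD := by
  induction w with
  | nil => exact ⟨fP_one S, one_mem _⟩
  | cons i w ih =>
    have hi : el (12 + i.val) ∈ DD := xl_eq i ▸ lifts.E_mem _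
    refine ⟨?_, mul_mem hi ih.2⟩
    rw [List.map_cons, List.prod_cons, ← ih.1]
    show S.fP (el (12 + i.val) * liftW w) = _
    exact fP_mul S hi ih.2

/-- A bound on the order of the amalgam gives a homomorphism from the presented group onto a subgroup
containing the centraliser. -/
theorem theta_of_bound [Finite P] (hA : Finite Am ∧ Nat.card Am ≤ Nat.card P) (xP : P)
    (psq : xP * xP = 1)
    (pconj : ∀ k, xP * ((Alpha.gen k).map odEl).prod * xP = ((Alpha.img 2 k).map odEl).prod)
    (prel : ∀ r, xP * ((relG 2 r).map odEl).prod * xP * ((relH 2 r).map odEl).prod * xP =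
      ((relY 2 r).map odEl).prod)
    (pgen : Subgroup.closure (Set.range odEl ∪ {xP}) = ⊤)
    (S : Setting G) (x : G) (h : Conf S 2 x) :
    ∃ θ : P →* G, θ tt = S.t ∧ ∀ g : G, g * S.t = S.t * g → g ∈ θ.range := by
  have := hA.1
  have hoc : ∀ i, Commute tt (odEl i) := fun i => xx_comm _ (Alpha.odL i).isLt
  have hosq : ∀ i j, i ≠ j → (odEl i * odEl j) ^ 2 = tt := fun i j hij =>
    xx_sq _ _ (Alpha.odL i).isLt (Alpha.odL j).isLt fun e => hij (odL_inj (Fin.ext e))
  have hot : ([0, 1, 0, 1].map odEl).prod = tt := el_tt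
  obtain ⟨π, hπE, hπX⟩ := exists_amHom odEl xP tt hot tt_sq hoc
    (fun i => xx_cube _ (Alpha.odL i).isLt) hosq psq pconj prel
  have hπs : Function.Surjective π := by
    rw [← MonoidHom.range_eq_top, eq_top_iff, ← pgen, Subgroup.closure_le]
    rintro g (⟨i, rfl⟩ | rfl)
    · exact ⟨amE i, hπE i⟩
    · exact ⟨amX, hπX⟩
  have hπb : Function.Bijective π := hπs.bijective_of_nat_card_le hA.2
  let e : Fin 9 → G := fun i => S.fP (el (12 + i.val))
  have hw : ∀ w, (w.map e).prod = S.word w := fun w => (fP_list S w).1.symm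
  have hm : ∀ i : Fin 9, el (12 + i.val) ∈ DD := fun i => xl_eq i ▸ lifts.E_mem _
  have hpow : ∀ {y : P}, y ∈ DD → ∀ n : ℕ, S.fP (y ^ n) = S.fP y ^ n := fun {y} hy n => by
    induction n with
    | zero => rw [pow_zero, pow_zero, fP_one]
    | succ n ih => rw [pow_succ, pow_succ, fP_mul S (pow_mem hy n) hy, ih]
  have hz : ([0, 1, 0, 1].map e).prod = S.t := by
    rw [hw, Setting.word, liftW, el_tt, fP_tt]
  obtain ⟨φ, hφE, -⟩ := exists_amHom e x S.t hz (by rw [← pow_two, ← S.ord, pow_orderOf_eq_one])
    (fun i => (fP_comm S (hm i)).symm)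
    (fun i => by rw [← hpow (hm i), xx_cube _ i.isLt, fP_one])
    (fun i j hij => by
      rw [← fP_mul S (hm i) (hm j), ← hpow (mul_mem (hm i) (hm j)),
        xx_sq _ _ i.isLt j.isLt (fun e => hij (Fin.ext e)), fP_tt])
    h.sq (fun k => by rw [hw, hw]; exact h.conj k) (fun r => by rw [hw, hw, hw]; exact h.rel r)
  let eA : Am ≃* P := MulEquiv.ofBijective π hπb
  refine ⟨φ.comp eA.symm.toMonoidHom, ?_, fun g hg => ?_⟩
  · have h1 : eA.symm tt = ([0, 1, 0, 1].map amE).prod := eA.symm_apply_eq.2 (by
      show tt = π _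
      rw [map_list_prod, List.map_map, ← hot]
      congr 1
      exact List.map_congr_left fun i _ => (hπE i).symm)
    show φ (eA.symm tt) = S.t
    rw [h1, map_list_prod, List.map_map, ← hz]
    congr 1
    exact List.map_congr_left fun i _ => hφE i
  · rw [MonoidHom.range_comp, MonoidHom.range_eq_top.2 eA.symm.surjective, ← MonoidHom.range_eq_map]
    obtain ⟨y, hy, rfl⟩ := exists_fP S hg
    induction hy using Subgroup.closure_induction with
    | mem y hy =>
      obtain ⟨r, rfl⟩ := hy
      obtain ⟨i, rfl⟩ : ∃ i, restOf i = r := by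
        refine ⟨⟨r.1.val - 2, by have := two_le_rest r; have := r.1.isLt; omega⟩,
          Subtype.ext (Fin.ext ?_)⟩
        have := two_le_rest r
        show r.1.val - 2 + 2 = r.1.val
        omega
      exact ⟨amE i, by rw [hφE, ← xl_eq]⟩
    | one => exact ⟨1, by rw [map_one, fP_one]⟩
    | mul a b ha hb iha ihb =>
      rw [fP_mul S ha hb]
      exact mul_mem (iha (fP_comm S ha)) (ihb (fP_comm S hb))
    | inv a ha iha =>
      rw [fP_inv S ha]
      exact inv_mem (iha (fP_comm S ha))

end Cfsg.Agent.LyRec
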