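import Cfsg.Agent.LyRec.Collapse.J0
import Cfsg.Agent.LyRec.Collapse.J1

/-!
Only the third automorphism of the centraliser of two involutions occurs in a configuration.
-/

set_option autoImplicit false

namespace Cfsg.Agent.LyRec

open Cfsg Cfsg.Agent.LyLocal

/-- The automorphism of a configuration is the third. -/
theorem Conf.eq_two [IsSimpleGroup P] {G : Type*} [Group G] {S : Setting G} {j : Fin 3} {x : G}
    (h : Conf S j x) : j = 2 := by
  fin_cases j
  · exact (Collapse.J0.no h).elim
  · exact (Collapse.J1.no h).elim
  · rfl

end Cfsg.Agent.LyRec
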