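import Cfsg.Agent.LyRec.Model.Data
import Cfsg.Agent.LyRec.Setting
import Cfsg.Agent.DCoset.PermModel

/-!
The double cover as permutations of 5040 points: the table of the nine lifts and their inverses is a
model for double coset derivations inside any group containing the double cover.
-/

set_option autoImplicit false
set_option maxRecDepth 100000
set_option Elab.async false

namespace Cfsg.Agent.LyRec.Model

open Cfsg Cfsg.Agent.LyLocal Cfsg.Agent.ShortPres
open Cfsg.Agent.CosetCert (allFrom allFrom_iff force force_eq)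
open Cfsg.Agent.DCoset

theorem table_ok :
    allFrom (fun g => allFrom (fun p => Nat.blt (tab.act g p) 5040 &&
      Nat.beq (tab.act (Nat.mod (Nat.add g 9) 18) (tab.act g p)) p) 0 5040) 0 18 = true := by
  decide +kernel

theorem act_lt' {g p : ℕ} (hg : g < 18) (hp : p < 5040) : tab.act g p < 5040 ∧
    tab.act ((g + 9) % 18) (tab.act g p) = p := by
  have h := DCoset.allFrom_all (DCoset.allFrom_all table_ok hg : allFrom _ 0 5040 = true) hp
  simp only [Bool.and_eq_true, Nat.blt_eq, Nat.beq_eq] at h
  exact h

/-- A letter as a permutation. -/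
noncomputable def eP (g : Fin 9) : Equiv.Perm (Fin 5040) where
  toFun p := ⟨tab.act (g.val + 9) p.val, (act_lt' (by omega) p.isLt).1⟩
  invFun p := ⟨tab.act g.val p.val, (act_lt' (by omega) p.isLt).1⟩
  left_inv p := Fin.ext (by
    have h := (act_lt' (g := g.val + 9) (by omega) p.isLt).2
    rwa [show (g.val + 9 + 9) % 18 = g.val by omega] at h)
  right_inv p := Fin.ext (by
    have h := (act_lt' (g := g.val) (by omega) p.isLt).2
    rwa [show (g.val + 9) % 18 = g.val + 9 by omega] at h)

/-- The central involution as a permutation. -/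
noncomputable def zP : Equiv.Perm (Fin 5040) := (eP 0 * eP 1) ^ 2

/-- One step of a word on the points. -/
noncomputable def a2 (i j p : ℕ) : ℕ := tab.act (Nat.add i 9) (tab.act (Nat.add j 9) p)

/-- The relations of one lift at one point. -/
noncomputable def relPt (i p : ℕ) : Bool :=
  Nat.beq (tab.act (Nat.add i 9) (tab.act (Nat.add i 9) (tab.act (Nat.add i 9) p))) p &&
    force (a2 0 1 (a2 0 1 p)) (fun zp =>
      Nat.beq (tab.act (Nat.add i 9) zp) (a2 0 1 (a2 0 1 (tab.act (Nat.add i 9) p))) &&
      allFrom (fun j => Nat.ble j i || Nat.beq (a2 i j (a2 i j p)) zp) 0 9)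

/-- The relations of one lift at every point. -/
noncomputable def relRow (i : ℕ) : Bool := allFrom (relPt i) 0 5040

theorem relRow_0 : relRow 0 = true := by decide +kernel

theorem relRow_1 : relRow 1 = true := by decide +kernel

theorem relRow_2 : relRow 2 = true := by decide +kernel

theorem relRow_3 : relRow 3 = true := by decide +kernel

theorem relRow_4 : relRow 4 = true := by decide +kernel

theorem relRow_5 : relRow 5 = true := by decide +kernel

theorem relRow_6 : relRow 6 = true := by decide +kernel

theorem relRow_7 : relRow 7 = true := by decide +kernel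

theorem relRow_8 : relRow 8 = true := by decide +kernel

theorem relRow_all : ∀ i : Fin 9, relRow i.val = true := by
  intro i
  fin_cases i
  exacts [relRow_0, relRow_1, relRow_2, relRow_3, relRow_4, relRow_5, relRow_6, relRow_7, relRow_8]

theorem z_facts : Nat.beq (a2 0 1 (a2 0 1 0)) 0 = false ∧
    allFrom (fun p => Nat.beq (a2 0 1 (a2 0 1 (a2 0 1 (a2 0 1 p)))) p) 0 5040 = true := by
  refine ⟨?_, ?_⟩ <;> decide +kernel

theorem eP_apply (g : Fin 9) (p : Fin 5040) : (eP g p : ℕ) = tab.act (g.val + 9) p.val := rfl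

theorem zP_apply (p : Fin 5040) : (zP p : ℕ) = a2 0 1 (a2 0 1 p.val) := rfl

theorem rel_spec (i : Fin 9) (p : Fin 5040) :
    eP i (eP i (eP i p)) = p ∧ eP i (zP p) = zP (eP i p) ∧
      ∀ j : Fin 9, i ≠ j → eP i (eP j (eP i (eP j p))) = zP p := by
  have base : ∀ (i : Fin 9) (p : Fin 5040),
      eP i (eP i (eP i p)) = p ∧ eP i (zP p) = zP (eP i p) ∧
        ∀ j : Fin 9, i < j → eP i (eP j (eP i (eP j p))) = zP p := by
    intro i p
    have h : relPt i.val p.val = true :=
      DCoset.allFrom_all (relRow_all i : allFrom (relPt i.val) 0 5040 = true) p.isLt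
    rw [relPt, force_eq] at h
    obtain ⟨h1, h23⟩ := Bool.and_eq_true_iff.1 h
    obtain ⟨h2, h3⟩ := Bool.and_eq_true_iff.1 h23
    refine ⟨Fin.ext (Nat.eq_of_beq_eq_true h1), Fin.ext (Nat.eq_of_beq_eq_true h2),
      fun j hj => Fin.ext ?_⟩
    rcases Bool.or_eq_true_iff.1 (DCoset.allFrom_all h3 j.isLt) with e | e
    · exact absurd (Nat.le_of_ble_eq_true e) (Nat.not_le.2 (Fin.lt_def.1 hj))
    · exact Nat.eq_of_beq_eq_true e
  refine ⟨(base i p).1, (base i p).2.1, fun j hij => ?_⟩
  rcases lt_or_gt_of_ne hij with h | h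
  · exact (base i p).2.2 j h
  · -- `(i j)^2 = j^-1 (j i)^2 j`, and the central involution commutes with the lifts
    refine (eP j).injective ?_
    rw [(base j (eP j p)).2.2 i h |>.trans ((base j p).2.1).symm]

variable [IsSimpleGroup P]

/-- The position of a lifted three-cycle. -/
def idxR (x : Rest (0 : Fin 11) 1) : Fin 9 :=
  ⟨x.1.val - 2, by have := x.1.isLt; have := two_le_rest x; omega⟩

theorem idxR_inj : Function.Injective idxR := fun x y h => Subtype.ext (Fin.ext (by
  have := two_le_rest x; have := two_le_rest y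
  have := congrArg Fin.val h
  simp only [idxR] at this
  omega))

/-- The lifts in the product of the presented group and the permutations. -/
noncomputable def both : Lifts (0 : Fin 11) 1 (P × Equiv.Perm (Fin 5040)) where
  E x := (lifts.E x, eP (idxR x))
  t := (tt, zP)
  t_ne h := tt_ne (congrArg Prod.fst h)
  t_sq := Prod.ext tt_sq (Equiv.ext fun p => Fin.ext (by
    rw [Prod.snd_mul, Equiv.Perm.mul_apply, zP_apply, zP_apply]
    exact Nat.eq_of_beq_eq_true (DCoset.allFrom_all z_facts.2 p.isLt)))
  t_comm x := Prod.ext (lifts.t_comm x).eq (Equiv.ext fun p => ((rel_spec (idxR x) p).2.1).symm)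
  cube x := Prod.ext (lifts.cube x) (Equiv.ext fun p => by
    rw [Prod.pow_snd, pow_succ, pow_two, Equiv.Perm.mul_apply, Equiv.Perm.mul_apply]
    exact (rel_spec (idxR x) p).1)
  prod_sq x y hxy := Prod.ext (lifts.prod_sq x y hxy) (Equiv.ext fun p => by
    rw [Prod.pow_snd, pow_two, Prod.snd_mul]
    exact (rel_spec (idxR x) p).2.2 _ fun e => hxy (idxR_inj e))

/-- The first projection. -/
noncomputable def toDD : both.grp →* DD :=
  ((MonoidHom.fst P _).comp both.grp.subtype).codRestrict DD fun g => by
    have h : both.grp ≤ DD.comap (MonoidHom.fst P _) :=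
      (Subgroup.closure_le _).2 (by rintro _ ⟨x, rfl⟩; exact lifts.E_mem x)
    exact h g.2

theorem toDD_bijective : Function.Bijective toDD := by
  have := both.grp_finite five_le eleven_ne
  refine (Nat.bijective_iff_surjective_and_card _).2 ⟨?_, ?_⟩
  · intro y
    have h : DD ≤ both.grp.map (MonoidHom.fst P _) :=
      (Subgroup.closure_le _).2 (by rintro _ ⟨x, rfl⟩; exact ⟨_, both.E_mem x, rfl⟩)
    obtain ⟨g, hg, e⟩ := h y.2
    exact ⟨⟨g, hg⟩, Subtype.ext e⟩
  · rw [both.card_grp five_le eleven_ne, lifts.card_grp five_le eleven_ne]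

/-- The action of the double cover on the points. -/
noncomputable def ρ : DD →* Equiv.Perm (Fin 5040) :=
  ((MonoidHom.snd P _).comp both.grp.subtype).comp
    (MulEquiv.ofBijective toDD toDD_bijective).symm.toMonoidHom

/-- A lift in the double cover. -/
noncomputable def lift (i : Fin 9) : DD := ⟨el (12 + i.val), xl_eq i ▸ lifts.E_mem _⟩

theorem ρ_lift (i : Fin 9) : ρ (lift i) = eP i := by
  have hidx : idxR (restOf i) = i := Fin.ext (by simp [idxR, restOf])
  show ((MulEquiv.ofBijective toDD toDD_bijective).symm (lift i)).1.2 = _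
  rw [show (MulEquiv.ofBijective toDD toDD_bijective).symm (lift i) =
    ⟨both.E (restOf i), both.E_mem _⟩ from
      (MulEquiv.symm_apply_eq _).2 (Subtype.ext (xl_eq i))]
  exact congrArg eP hidx

/-- A letter: a lift or its inverse. -/
noncomputable def qL (g : ℕ) : DD :=
  if h : g < 9 then lift ⟨g, h⟩ else
    if h' : g < 18 then (lift ⟨g - 9, by omega⟩)⁻¹ else 1

/-- The base points. -/
noncomputable def bp (l : ℕ) : Fin 5040 := Fin.ofNat 5040 (fld tab.base l)

theorem base_ok : tab.base = pk16 3 fun l => (bp l).val := by decide +kernel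

theorem acts : Acts ρ tab qL bp where
  small := by norm_num
  act_lt := fun g p => get16_lt _ _
  base_eq := base_ok
  act_eq := by
    intro g hg p
    have hg' : g < 18 := hg
    rw [qL]
    split_ifs with h
    · rw [ρ_lift]; rfl
    · rw [map_inv, ρ_lift, inv_inv]
      show tab.act g p.val = tab.act (g - 9 + 9) p.val
      rw [Nat.sub_add_cancel (by omega)]

theorem chain_ok :
    allFrom (fun l => allFrom (QModel.checkGen tab chain l) 0 (chain.nGen l) &&
      allFrom (QModel.checkPt tab chain l) 0 (chain.size l)) 0 3 = true ∧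
    ((List.range 3).map chain.size).prod = 39916800 := by
  refine ⟨?_, ?_⟩ <;> decide +kernel

theorem chain_gen {l a : ℕ} (hl : l < tab.k) (ha : a < chain.nGen l) :
    QModel.checkGen tab chain l a = true := by
  have h := DCoset.allFrom_all chain_ok.1 (show l < 3 from hl)
  simp only [Bool.and_eq_true] at h
  exact DCoset.allFrom_all h.1 ha

theorem chain_pt {l j : ℕ} (hl : l < tab.k) (hj : j < chain.size l) :
    QModel.checkPt tab chain l j = true := by
  have h := DCoset.allFrom_all chain_ok.1 (show l < 3 from hl)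
  simp only [Bool.and_eq_true] at h
  exact DCoset.allFrom_all h.2 hj

/-- The model. -/
noncomputable def qm : QModel DD :=
  haveI : Finite DD := lifts.grp_finite five_le eleven_ne
  acts.toQModel (acts.faithful chain card_DD.le chain_ok.2 (fun _ _ => chain_gen) fun _ _ => chain_pt)

theorem qm_tab : qm.toTab = tab := rfl

theorem qm_q : qm.q = qL := rfl

/-- The value of a word in the lifts. -/
theorem prod_qL (w : List (Fin 9)) : ((w.map fun i => qL i.val).prod : DD).1 = liftW w := by
  rw [liftW, SubmonoidClass.coe_list_prod, List.map_map]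
  refine congrArg List.prod (List.map_congr_left fun i _ => ?_)
  show (qL i.val : DD).1 = _
  rw [qL, dif_pos i.isLt]
  rfl

/-- The letters generate. -/
theorem gen_top : Subgroup.closure {x | ∃ g, g < qm.nL ∧ x = qm.q g} = ⊤ := by
  haveI : Finite DD := lifts.grp_finite five_le eleven_ne
  have hsub : ∀ i : Fin 9, lift i ∈ Subgroup.closure {x | ∃ g, g < qm.nL ∧ x = qm.q g} := fun i =>
    Subgroup.subset_closure ⟨i.val, show i.val < 18 by omega, by rw [qm_q, qL, dif_pos i.isLt]⟩
  apply Subgroup.map_injective DD.subtype_injective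
  rw [← MonoidHom.range_eq_map, Subgroup.range_subtype]
  refine le_antisymm (Subgroup.map_subtype_le _) ((Subgroup.closure_le _).2 ?_)
  rintro _ ⟨x, rfl⟩
  refine ⟨lift (idxR x), hsub _, ?_⟩
  show el (12 + (idxR x).val) = lifts.E x
  rw [xl_eq]
  refine congrArg lifts.E (Subtype.ext (Fin.ext ?_))
  have := two_le_rest x
  simp only [restOf, idxR]
  omega

end Cfsg.Agent.LyRec.Model
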