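import Mathlib.Data.Fin.VecNotation

/-! Generated: the two triangle relators `x g x h x = y` for each of the three automorphisms of the
centraliser of two involutions, as words in the nine lifts. -/

set_option autoImplicit false
set_option linter.all false

namespace Cfsg.Agent.LyRec

/-- The first middle element of a triangle relator. -/
def relG : Fin 3 → Fin 2 → List (Fin 9) := ![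
  ![[0, 6, 0, 7, 8, 8, 6, 0, 5, 0, 8, 6, 6, 5, 0, 4, 0, 8, 5, 5, 4, 0, 3, 0, 6, 4, 4, 3, 0, 2, 0, 8, 3, 3, 2, 0, 1, 0, 3, 2, 2, 1, 0, 0, 4, 0, 1, 0, 0, 1, 1, 0, 1, 0, 0],
    [0, 6, 0, 7, 8, 8, 6, 0, 3, 0, 5, 4, 4, 3, 0, 2, 0, 3, 4, 4, 2, 0, 1, 0, 3, 2, 2, 1, 0, 0, 4, 0, 1, 0, 0, 1, 1, 0, 1, 0]],
  ![[0, 4, 0, 5, 6, 6, 4, 0, 3, 0, 6, 4, 4, 3, 0, 2, 0, 5, 3, 3, 2, 0, 1, 0, 5, 2, 2, 1, 0, 0, 2, 0, 1, 0, 0, 6, 1, 0, 1, 8, 8],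
    [0, 3, 0, 5, 4, 4, 3, 0, 1, 0, 5, 2, 2, 1, 5, 1, 0, 1, 2, 2]],
  ![[0, 6, 0, 8, 7, 7, 6, 0, 3, 0, 8, 4, 4, 3, 0, 2, 0, 3, 4, 4, 2, 0, 1, 0, 4, 2, 2, 1, 0, 0, 3, 0, 1, 0, 0, 8, 1, 0, 1, 7, 7],
    [0, 3, 0, 4, 5, 5, 3, 0, 2, 0, 5, 3, 3, 2, 0, 1, 0, 4, 2, 2, 1, 0, 0, 3, 0, 1, 0, 0, 1, 1, 0, 1, 0, 0, 1, 0, 1]]]

/-- The second middle element of a triangle relator. -/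
def relH : Fin 3 → Fin 2 → List (Fin 9) := ![
  ![[0, 6, 0, 7, 8, 8, 6, 0, 5, 0, 8, 6, 6, 5, 0, 4, 0, 6, 5, 5, 4, 0, 3, 0, 8, 4, 4, 3, 0, 2, 0, 6, 3, 3, 2, 0, 1, 0, 3, 2, 2, 1, 0, 0, 5, 0, 1, 1, 0, 1],
    [0, 6, 0, 7, 8, 8, 6, 0, 3, 0, 5, 4, 4, 3, 0, 2, 0, 4, 3, 3, 2, 0, 1, 0, 4, 2, 2, 1, 0, 0, 3, 0, 1, 0, 0, 1, 1, 0]],
  ![[0, 5, 0, 8, 6, 6, 5, 0, 4, 0, 5, 6, 6, 4, 0, 3, 0, 6, 4, 4, 3, 0, 2, 0, 8, 3, 3, 2, 0, 1, 0, 4, 2, 2, 1, 0, 0, 2, 0, 1, 0, 0],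
    [0, 3, 0, 5, 4, 4, 3, 0, 2, 0, 5, 3, 3, 2, 0, 1, 0, 2, 3, 3, 1, 2, 1, 0, 1, 5, 5, 0, 1, 0, 1]],
  ![[0, 6, 0, 7, 8, 8, 6, 0, 5, 0, 8, 6, 6, 5, 0, 2, 0, 8, 3, 3, 2, 0, 1, 0, 3, 2, 2, 1, 0, 0, 5, 0, 1, 0, 0, 7, 1, 0, 1, 8, 8, 0, 1, 0, 1],
    [0, 3, 0, 5, 4, 4, 3, 0, 2, 0, 4, 3, 3, 2, 0, 1, 0, 4, 2, 2, 1, 0, 0, 3, 0, 1, 0, 0, 1, 1, 0, 0, 1, 0, 1]]]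

/-- The value of a triangle relator. -/
def relY : Fin 3 → Fin 2 → List (Fin 9) := ![
  ![[0, 5, 0, 7, 6, 6, 5, 0, 4, 0, 7, 5, 5, 4, 0, 3, 0, 8, 4, 4, 3, 0, 2, 0, 4, 3, 3, 2, 0, 0, 8, 0, 1, 0, 0, 7, 1, 0, 1, 8, 8],
    [0, 6, 0, 8, 7, 7, 6, 0, 3, 0, 4, 5, 5, 3, 0, 2, 0, 3, 4, 4, 2, 0, 1, 0, 4, 2, 2, 1, 5, 1, 0, 1, 0, 1, 0, 1]],
  ![[0, 6, 0, 8, 7, 7, 6, 0, 5, 0, 6, 7, 7, 5, 0, 4, 0, 5, 6, 6, 4, 0, 3, 0, 8, 4, 4, 3, 0, 2, 0, 4, 3, 3, 2, 0, 1, 0, 6, 2, 2, 1, 0, 0, 8, 0, 1, 1, 0, 1],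
    [0, 2, 0, 5, 3, 3, 2, 0, 1, 0, 3, 2, 2, 1, 0, 0, 2, 0, 1, 0, 0, 3, 1, 0]],
  ![[0, 5, 0, 6, 7, 7, 5, 0, 4, 0, 6, 5, 5, 4, 0, 3, 0, 5, 4, 4, 3, 0, 2, 0, 8, 3, 3, 2, 0, 1, 0, 6, 2, 2, 1, 0, 0, 8, 0, 1, 0, 0, 2, 1, 0, 1, 3, 3],
    [0, 3, 0, 5, 4, 4, 3, 0, 0, 1, 0, 2, 0, 0, 1, 1, 0, 1, 3, 3]]]

end Cfsg.Agent.LyRec
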