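import Cfsg.Agent.LyRec.Setting
import Cfsg.Agent.LyRec.RelData
import Cfsg.Agent.LyRec.Alpha.Words

/-!
The configuration extracted from a group of Lyons type: an involution exchanging the two marked
involutions of the centraliser, inducing one of three automorphisms on their common centraliser,
and satisfying two triangle relations.
-/

set_option autoImplicit false

namespace Cfsg.Agent.LyRec

open Cfsg Cfsg.Agent.LyLocal

variable {G : Type*} [Group G] [IsSimpleGroup P]

/-- The value in `G` of a word in the nine lifts. -/
noncomputable def Setting.word (S : Setting G) (w : List (Fin 9)) : G := S.fP (liftW w)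

/-- `x` is an involution acting as the automorphism number `j`, with the two triangle relations. -/
structure Conf (S : Setting G) (j : Fin 3) (x : G) : Prop where
  sq : x * x = 1
  conj : ∀ k : Fin 3, x * S.word (Alpha.gen k) * x = S.word (Alpha.img j k)
  rel : ∀ r : Fin 2, x * S.word (relG j r) * x * S.word (relH j r) * x = S.word (relY j r)

end Cfsg.Agent.LyRec
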