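import Cfsg.Agent.LyRec.Triangle.Data0
import Cfsg.Agent.LyRec.Triangle.Data1
import Cfsg.Agent.LyRec.Triangle.Data2

/-!
An involution exchanging the two marked involutions and inducing one of the three automorphisms of
their common centraliser satisfies the two triangle relations.
-/

set_option autoImplicit false

namespace Cfsg.Agent.LyRec

open Cfsg Cfsg.Agent.LyLocal Triangle

variable [IsSimpleGroup P] {G : Type*} [Group G] {S : Setting G} {j : Fin 3} {x : G}

theorem Triangle.Frame.conf (hF : Frame S j x) : Conf S j x where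
  sq := hF.sq
  conj := hF.conj
  rel := by
    intro r
    fin_cases j <;> fin_cases r
    · exact hF.pinned Data0.pin0 Data0.zRel rfl rfl Data0.zRel_ok Data0.pin0_ok.1
        Data0.pin0_ok.2.1 Data0.pin0_ok.2.2.1 Data0.pin0_ok.2.2.2
    · exact hF.pinned Data0.pin1 Data0.zRel rfl rfl Data0.zRel_ok Data0.pin1_ok.1
        Data0.pin1_ok.2.1 Data0.pin1_ok.2.2.1 Data0.pin1_ok.2.2.2
    · exact hF.pinned Data1.pin0 Data1.zRel rfl rfl Data1.zRel_ok Data1.pin0_ok.1
        Data1.pin0_ok.2.1 Data1.pin0_ok.2.2.1 Data1.pin0_ok.2.2.2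
    · exact hF.pinned Data1.pin1 Data1.zRel rfl rfl Data1.zRel_ok Data1.pin1_ok.1
        Data1.pin1_ok.2.1 Data1.pin1_ok.2.2.1 Data1.pin1_ok.2.2.2
    · exact hF.pinned Data2.pin0 Data2.zRel rfl rfl Data2.zRel_ok Data2.pin0_ok.1
        Data2.pin0_ok.2.1 Data2.pin0_ok.2.2.1 Data2.pin0_ok.2.2.2
    · exact hF.pinned Data2.pin1 Data2.zRel rfl rfl Data2.zRel_ok Data2.pin1_ok.1
        Data2.pin1_ok.2.1 Data2.pin1_ok.2.2.1 Data2.pin1_ok.2.2.2

/-- The triangle relations follow from the action on the centraliser of the two involutions. -/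
theorem conf_of_action (S : Setting G) {j : Fin 3} {x : G} (sq : x * x = 1)
    (swap : x * S.t * x = S.fP (liftW Alpha.uD))
    (conj : ∀ k : Fin 3, x * S.fP (liftW (Alpha.gen k)) * x = S.fP (liftW (Alpha.img j k))) :
    Conf S j x :=
  Frame.conf ⟨sq, swap, conj⟩

end Cfsg.Agent.LyRec
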