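import Cfsg.Agent.LyRec.Alpha.Main
import Cfsg.Agent.LyRec.Relators
import Cfsg.Agent.LyRec.Collapse

/-!
The configuration of the true class exists in every group with the involution centraliser of Lyons type.
-/

set_option autoImplicit false

namespace Cfsg.Agent.LyRec

open Cfsg Cfsg.Agent.LyLocal

/-- An identification of the centraliser and an involution in the configuration of the true class. -/
theorem exists_conf [IsSimpleGroup P] {G : Type*} [Group G] [Finite G] [IsSimpleGroup G]
    (S : Setting G) : ∃ (S' : Setting G) (x : G), S'.t = S.t ∧ Conf S' 2 x := by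
  obtain ⟨S', x, j, ht, hx2, hxt, -, hconj⟩ := Alpha.exists_alpha_simple S
  have hC : Conf S' j x := conf_of_action S' hx2 hxt hconj
  obtain rfl := hC.eq_two
  exact ⟨S', x, ht, hC⟩

end Cfsg.Agent.LyRec
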