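import Cfsg.Agent.LyLocal.AltCover
import Cfsg.Agent.AltMult.Main

/-!
Two non-split double covers of the alternating group of degree eleven are isomorphic.
-/

set_option autoImplicit false

namespace Cfsg.Agent.LyRec

open Equiv Cfsg.Agent.AltMult Cfsg.Agent.LyLocal Cfsg.Agent.ShortPres

variable {H : Type*} [Group H] [Finite H]

/-- Lifts of the three-cycles `(0 1 i)` with all squared products equal to the central involution. -/
structure Cov11 (H : Type*) [Group H] where
  z : H
  E : ℕ → H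
  z_ne : z ≠ 1
  z_sq : z * z = 1
  z_comm : ∀ g, g * z = z * g
  cube : ∀ i < 9, E i ^ 3 = 1
  prod_sq : ∀ i j, i < 9 → j < 9 → i ≠ j → (E i * E j) ^ 2 = z
  gen : Subgroup.closure (E '' Set.Iio 9) = ⊤
  card : Nat.card H = 39916800

theorem exists_cov11 (h : Cfsg.IsNonsplitDoubleCover H (alternatingGroup (Fin 11))) :
    Nonempty (Cov11 H) := by
  classical
  obtain ⟨hc2, ⟨e⟩, hns⟩ := h
  let π : H →* alternatingGroup (Fin (9 + 2)) :=
    e.toMonoidHom.comp (QuotientGroup.mk' (Subgroup.center H))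
  have hsurj : Function.Surjective π := e.surjective.comp (QuotientGroup.mk'_surjective _)
  have hker : π.ker = Subgroup.center H := by
    ext g
    rw [MonoidHom.mem_ker]
    show e (QuotientGroup.mk' (Subgroup.center H) g) = 1 ↔ _
    rw [EmbeddingLike.map_eq_one_iff, QuotientGroup.mk'_apply, QuotientGroup.eq_one_iff]
  obtain ⟨z', hz1, hzall⟩ : ∃ z : Subgroup.center H, z ≠ 1 ∧ ∀ g : Subgroup.center H, g = 1 ∨ g = z := by
    obtain ⟨a, b, hab, hset⟩ := Nat.card_eq_two_iff.mp hc2
    have all2 : ∀ g : Subgroup.center H, g = a ∨ g = b := fun g => by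
      have : g ∈ ({a, b} : Set (Subgroup.center H)) := hset ▸ Set.mem_univ g
      simpa using this
    rcases all2 1 with h1 | h1
    · exact ⟨b, fun hb => hab (h1.symm.trans hb.symm), fun g => (all2 g).imp (fun hg => hg.trans h1.symm) id⟩
    · exact ⟨a, fun ha => hab (ha.trans h1), fun g => (all2 g).symm.imp (fun hg => hg.trans h1.symm) id⟩
  set z : H := z'.1 with hz
  have hzne : z ≠ 1 := fun h => hz1 (Subtype.ext h)
  have hzc : ∀ g, g * z = z * g := fun g => Subgroup.mem_center_iff.1 z'.2 g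
  have hk : ∀ g, π g = 1 → g = 1 ∨ g = z := fun g hg => by
    have hg' : g ∈ Subgroup.center H := hker ▸ MonoidHom.mem_ker.2 hg
    exact (hzall ⟨g, hg'⟩).imp (congrArg Subtype.val) (congrArg Subtype.val)
  have hzk : π z = 1 := MonoidHom.mem_ker.1 (hker ▸ z'.2)
  have hz2 : z * z = 1 := by
    rcases hzall (z' * z') with h' | h'
    · exact congrArg Subtype.val h'
    · exact absurd (mul_left_cancel (a := z') (h'.trans (mul_one z').symm)) hz1
  have hgen3 : ∀ i < 9, gen 9 i ^ 3 = 1 := fun i hi => by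
    apply Subtype.ext
    rw [SubgroupClass.coe_pow, gen_val hi, OneMemClass.coe_one]
    exact cyc_pow_three zero_ne_one' (pt_ne_zero hi).symm (pt_ne_one hi).symm
  have hlift : ∀ i, ∃ y : H, i < 9 → π y = gen 9 i ∧ y ^ 3 = 1 := by
    intro i
    by_cases hi : i < 9
    · obtain ⟨y, hy⟩ := hsurj (gen 9 i)
      refine ⟨y ^ 4, fun _ => ⟨?_, ?_⟩⟩
      · rw [map_pow, hy, pow_succ, hgen3 i hi, one_mul]
      · rw [← pow_mul, show 4 * 3 = 3 * 4 by rfl, pow_mul]
        rcases hk (y ^ 3) (by rw [map_pow, hy, hgen3 i hi]) with h' | h'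
        · rw [h', one_pow]
        · rw [h', show (4 : ℕ) = 2 + 2 by rfl, pow_add, pow_two, hz2, one_mul]
    · exact ⟨1, fun h => absurd h hi⟩
  choose E hE using hlift
  have huniq : ∀ i < 9, ∀ y, π y = gen 9 i → y ^ 3 = 1 → y = E i := by
    intro i hi y hy hy3
    obtain ⟨hp, hp3⟩ := hE i hi
    rcases hk (y * (E i)⁻¹) (by rw [map_mul, map_inv, hy, hp, mul_inv_cancel]) with h' | h'
    · exact mul_inv_eq_one.1 h'
    · exfalso
      rw [mul_inv_eq_iff_eq_mul] at h'
      rw [h', Commute.mul_pow (hzc (E i)).symm, hp3, mul_one, pow_succ, pow_two, hz2, one_mul] at hy3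
      exact hzne hy3
  set b := fun i j => (E i * E j) ^ 2 with hb
  have hbcases : ∀ i j, i < 9 → j < 9 → i ≠ j → b i j = 1 ∨ b i j = z := fun i j hi hj hij =>
    hk _ (by rw [hb, map_pow, map_mul, (hE i hi).1, (hE j hj).1, gen_mul_sq hi hj hij])
  have hsym : ∀ i j, i < 9 → j < 9 → i ≠ j → b j i = b i j := by
    intro i j hi hj hij
    have e1 : b j i = (E i)⁻¹ * b i j * E i := by simp only [hb, pow_two]; group
    rw [e1]
    rcases hbcases i j hi hj hij with h' | h' <;> rw [h']
    · group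
    · rw [mul_assoc, ← hzc, ← mul_assoc, inv_mul_cancel, one_mul]
  have hball : ∀ i j, i < 9 → j < 9 → i ≠ j → b i j = b 0 1 := by
    intro i j hi hj hij
    have h0 : (0 : ℕ) < 9 := by norm_num
    have h1 : (1 : ℕ) < 9 := by norm_num
    obtain ⟨σ, s0, s1, hmap⟩ := exists_pair_map (u := (0 : Fin (9 + 2))) (v := 1)
      (fun e => absurd (pt_inj h0 h1 e) (by norm_num)) (fun e => hij (pt_inj hi hj e))
      (pt_ne_zero h0) (pt_ne_one h0) (pt_ne_zero h1) (pt_ne_one h1)
      (pt_ne_zero hi) (pt_ne_one hi) (pt_ne_zero hj) (pt_ne_one hj)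
    obtain ⟨g, rfl⟩ := hsurj σ
    have move : ∀ a c, a < 9 → c < 9 → (π g : Perm (Fin (9 + 2))) (pt 9 a) = pt 9 c →
        g * E a * g⁻¹ = E c := by
      intro a c ha hc e
      refine huniq c hc _ (Subtype.ext ?_) (by rw [conj_pow, (hE a ha).2, mul_one, mul_inv_cancel])
      rw [map_mul, map_mul, map_inv, (hE a ha).1, Subgroup.coe_mul, Subgroup.coe_mul,
        Subgroup.coe_inv, gen_val ha, conj_cyc, s0, s1, e, gen_val hc]
    have hinv : g * b 0 1 * g⁻¹ = b 0 1 := by
      rcases hbcases 0 1 h0 h1 (by norm_num) with h' | h' <;> rw [h']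
      · group
      · rw [hzc, mul_inv_cancel_right]
    rcases hmap with ⟨a1, a2⟩ | ⟨a1, a2⟩
    · rw [← hinv]; simp only [hb, ← conj_pow]
      rw [← move 0 i h0 hi a1, ← move 1 j h1 hj a2]; group
    · rw [← hsym i j hi hj hij, ← hinv]; simp only [hb, ← conj_pow]
      rw [← move 0 j h0 hj a1, ← move 1 i h1 hi a2]; group
  have hA : Nat.card (alternatingGroup (Fin (9 + 2))) = 19958400 := by
    have := two_mul_nat_card_alternatingGroup (α := Fin (9 + 2))
    rw [Nat.card_perm, Nat.card_fin, show Nat.factorial (9 + 2) = 39916800 by rfl] at this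
    omega
  have hcard : Nat.card H = 39916800 := by
    rw [Subgroup.card_eq_card_quotient_mul_card_subgroup (Subgroup.center H), hc2,
      Nat.card_congr e.toEquiv, show Nat.card (alternatingGroup (Fin 11)) = 19958400 from hA]
  set L := Subgroup.closure (E '' Set.Iio 9) with hL
  have hmap : L.map π = ⊤ := gen_closure _ fun i hi =>
    ⟨E i, Subgroup.subset_closure ⟨i, hi, rfl⟩, (hE i hi).1⟩
  have hdec : ∀ g : H, ∃ l ∈ L, g = l ∨ g = l * z := by
    intro g
    obtain ⟨l, hl, hle⟩ := (hmap ▸ Subgroup.mem_top (π g) : π g ∈ L.map π)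
    rcases hk (l⁻¹ * g) (by rw [map_mul, map_inv, hle, inv_mul_cancel]) with h' | h'
    · exact ⟨l, hl, Or.inl (inv_mul_eq_one.1 h').symm⟩
    · exact ⟨l, hl, Or.inr (inv_mul_eq_iff_eq_mul.1 h')⟩
  have hb01 : b 0 1 = z := by
    rcases hbcases 0 1 (by norm_num) (by norm_num) (by norm_num) with h' | h'
    swap
    · exact h'
    exfalso
    have hle := two_mul_card_closure_le 9 E (fun i hi => (hE i hi).2)
      (fun i j hi hj hij => (hball i j hi hj hij).trans h')
    have hLcard : Nat.card L = 19958400 := by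
      have h1 : 19958400 ≤ Nat.card L := by
        rw [← hA, ← Subgroup.card_top (G := alternatingGroup (Fin (9 + 2))), ← hmap]
        exact Nat.le_of_dvd Nat.card_pos (Subgroup.card_map_dvd L π)
      rw [show Nat.factorial (9 + 2) = 39916800 by rfl] at hle
      have hle' : 2 * Nat.card L ≤ 39916800 := hle
      omega
    have hzL : z ∉ L := by
      intro hzL
      have : L = ⊤ := eq_top_iff.2 fun g _ => by
        obtain ⟨l, hl, rfl | rfl⟩ := hdec g
        exacts [hl, mul_mem hl hzL]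
      rw [this, Subgroup.card_top, hcard] at hLcard
      norm_num at hLcard
    refine hns L (Subgroup.isComplement'_of_card_mul_and_disjoint ?_ ?_)
    · rw [hc2, hLcard, hcard]
    · rw [Subgroup.disjoint_def]
      intro g hg hgL
      rcases hzall ⟨g, hg⟩ with h'' | h''
      · exact congrArg Subtype.val h''
      · exact absurd (by rw [show z = g from (congrArg Subtype.val h'').symm]; exact hgL) hzL
  refine ⟨⟨z, E, hzne, hz2, hzc, fun i hi => (hE i hi).2,
    fun i j hi hj hij => (hball i j hi hj hij).trans hb01, eq_top_iff.2 fun g _ => ?_, hcard⟩⟩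
  have hzmem : z ∈ L := by
    rw [← hb01, hb]
    have m : ∀ i < 9, E i ∈ L := fun i hi => Subgroup.subset_closure ⟨i, hi, rfl⟩
    exact pow_mem (mul_mem (m 0 (by norm_num)) (m 1 (by norm_num))) 2
  obtain ⟨l, hl, rfl | rfl⟩ := hdec g
  exacts [hl, mul_mem hl hzmem]

/-- Two covers are isomorphic. -/
theorem cover_iso {K : Type*} [Group K] [Finite K]
    (hH : Cfsg.IsNonsplitDoubleCover H (alternatingGroup (Fin 11)))
    (hK : Cfsg.IsNonsplitDoubleCover K (alternatingGroup (Fin 11))) : Nonempty (H ≃* K) := by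
  classical
  obtain ⟨A⟩ := exists_cov11 hH
  obtain ⟨B⟩ := exists_cov11 hK
  let ix : Rest (0 : Fin 11) 1 → ℕ := fun x => x.1.val - 2
  have hge : ∀ x : Rest (0 : Fin 11) 1, 2 ≤ x.1.val := fun x => by
    have h1 := x.2.1; have h2 := x.2.2
    simp only [ne_eq, Fin.ext_iff, Fin.val_zero, Fin.val_one] at h1 h2
    omega
  have hix : ∀ x, ix x < 9 := fun x => by have := hge x; have := x.1.isLt; simp only [ix]; omega
  have hij : ∀ x y, x ≠ y → ix x ≠ ix y := fun x y hxy e => hxy (Subtype.ext (Fin.ext (by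
    have := hge x; have := hge y; simp only [ix] at e; omega)))
  let L : Lifts (0 : Fin 11) 1 (H × K) :=
    { E := fun x => (A.E (ix x), B.E (ix x))
      t := (A.z, B.z)
      t_ne := fun h => A.z_ne (congrArg Prod.fst h)
      t_sq := Prod.ext A.z_sq B.z_sq
      t_comm := fun x => Prod.ext (A.z_comm _).symm (B.z_comm _).symm
      cube := fun x => Prod.ext (A.cube _ (hix x)) (B.cube _ (hix x))
      prod_sq := fun x y hxy => Prod.ext (A.prod_sq _ _ (hix x) (hix y) (hij x y hxy))
        (B.prod_sq _ _ (hix x) (hix y) (hij x y hxy)) }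
  have hmem : ∀ i < 9, (A.E i, B.E i) ∈ L.grp := by
    intro i hi
    have hp : (⟨i + 2, by omega⟩ : Fin 11) ≠ 0 ∧ (⟨i + 2, by omega⟩ : Fin 11) ≠ 1 :=
      ⟨fun e => by simp [Fin.ext_iff] at e, fun e => by simp [Fin.ext_iff] at e⟩
    exact L.E_mem ⟨⟨i + 2, by omega⟩, hp⟩
  have hA : Nat.card L.grp = 39916800 := by
    rw [L.card_grp (by simp) (by decide)]
    have := two_mul_nat_card_alternatingGroup (α := Fin 11)
    rw [Nat.card_perm, Nat.card_fin, show Nat.factorial 11 = 39916800 by rfl] at this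
    exact this
  let p : L.grp →* H := (MonoidHom.fst H K).comp L.grp.subtype
  let q : L.grp →* K := (MonoidHom.snd H K).comp L.grp.subtype
  have hp : Function.Surjective p := by
    rw [← MonoidHom.range_eq_top, eq_top_iff, ← A.gen, Subgroup.closure_le]
    rintro _ ⟨i, hi, rfl⟩
    exact ⟨⟨_, hmem i hi⟩, rfl⟩
  have hq : Function.Surjective q := by
    rw [← MonoidHom.range_eq_top, eq_top_iff, ← B.gen, Subgroup.closure_le]
    rintro _ ⟨i, hi, rfl⟩
    exact ⟨⟨_, hmem i hi⟩, rfl⟩
  exact ⟨(MulEquiv.ofBijective p (hp.bijective_of_nat_card_le (by rw [hA, A.card]))).symm.trans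
    (MulEquiv.ofBijective q (hq.bijective_of_nat_card_le (by rw [hA, B.card])))⟩

end Cfsg.Agent.LyRec
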