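import Cfsg.Agent.LyLocal.Fusion

/-!
Nine elements satisfying the relations of the lifted three-cycles give an embedding of the double cover.
-/

set_option autoImplicit false

namespace Cfsg.Agent.LyRec

open Cfsg.Agent.LyLocal Cfsg.Agent.AltMult Cfsg.Agent.ShortPres

variable [IsSimpleGroup P] {K : Type*} [Group K]

/-- The index of a letter of the double cover. -/
def restIdx (x : Rest (0 : Fin 11) 1) : Fin 9 :=
  ⟨x.1.val - 2, by have := two_le_rest x; have := x.1.isLt; omega⟩

theorem restOf_restIdx (x : Rest (0 : Fin 11) 1) : restOf (restIdx x) = x :=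
  Subtype.ext (Fin.ext (by
    have := two_le_rest x
    show x.1.val - 2 + 2 = x.1.val
    omega))

theorem restIdx_restOf (i : Fin 9) : restIdx (restOf i) = i :=
  Fin.ext (Nat.add_sub_cancel i.val 2)

/-- A homomorphism on the double cover with prescribed images of the nine lifts. -/
theorem exists_hom_of_rels (e : Fin 9 → K) (z : K) (z_sq : z * z = 1)
    (z_comm : ∀ i, Commute z (e i)) (cube : ∀ i, e i ^ 3 = 1)
    (prod_sq : ∀ i j, i ≠ j → (e i * e j) ^ 2 = z) :
    ∃ f : DD →* K, f.range = Subgroup.closure (Set.range e) ∧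
      f ⟨tt, lifts.t_mem five_le eleven_ne⟩ = z ∧
      ∀ (i : Fin 9) (h : el (12 + i.val) ∈ DD), f ⟨el (12 + i.val), h⟩ = e i := by
  have hij : ∀ x y : Rest (0 : Fin 11) 1, x ≠ y → restIdx x ≠ restIdx y := fun x y hxy h =>
    hxy (by rw [← restOf_restIdx x, h, restOf_restIdx])
  let L : Lifts (0 : Fin 11) 1 (P × K) :=
    { E := fun x => (lifts.E x, e (restIdx x))
      t := (tt, z)
      t_ne := fun h => tt_ne (congrArg Prod.fst h)
      t_sq := Prod.ext tt_sq z_sq
      t_comm := fun x => Prod.ext (lifts.t_comm x) (z_comm _)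
      cube := fun x => Prod.ext (lifts.cube x) (cube _)
      prod_sq := fun x y hxy => Prod.ext (lifts.prod_sq x y hxy) (prod_sq _ _ (hij x y hxy)) }
  haveI : Finite L.grp := L.grp_finite five_le eleven_ne
  let p : L.grp →* P := (MonoidHom.fst P K).comp L.grp.subtype
  let q : L.grp →* K := (MonoidHom.snd P K).comp L.grp.subtype
  have hp : p.range = DD := by
    rw [MonoidHom.range_comp, Subgroup.range_subtype]
    show (Subgroup.closure _).map _ = Subgroup.closure _
    rw [MonoidHom.map_closure, ← Set.range_comp]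
    rfl
  have hq : q.range = Subgroup.closure (Set.range e) := by
    rw [MonoidHom.range_comp, Subgroup.range_subtype]
    show (Subgroup.closure _).map _ = _
    rw [MonoidHom.map_closure, ← Set.range_comp]
    congr 1
    ext k
    constructor
    · rintro ⟨x, rfl⟩
      exact ⟨restIdx x, rfl⟩
    · rintro ⟨i, rfl⟩
      exact ⟨restOf i, congrArg e (restIdx_restOf i)⟩
  have hpi : Function.Injective p := by
    have hc : Nat.card L.grp = Nat.card p.range := by
      rw [hp, L.card_grp five_le eleven_ne, lifts.card_grp five_le eleven_ne]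
    exact (MonoidHom.ker_eq_bot_iff p).1 (Subgroup.eq_bot_of_card_le _ (by
      have := Subgroup.card_eq_card_quotient_mul_card_subgroup p.ker
      rw [Nat.card_congr (QuotientGroup.quotientKerEquivRange p).toEquiv, ← hc] at this
      have hpos : 0 < Nat.card L.grp := Nat.card_pos
      by_contra hlt
      nlinarith))
  let ep : L.grp ≃* DD := (MonoidHom.ofInjective hpi).trans (MulEquiv.subgroupCongr hp)
  have hep : ∀ (g : L.grp) (h : p g ∈ DD), ep.symm ⟨p g, h⟩ = g := fun g h =>
    ep.symm_apply_eq.2 (Subtype.ext rfl)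
  refine ⟨q.comp ep.symm.toMonoidHom, ?_, ?_, ?_⟩
  · rw [MonoidHom.range_comp, MonoidHom.range_eq_top.2 ep.symm.surjective, ← MonoidHom.range_eq_map,
      hq]
  · exact congrArg q (hep ⟨_, L.t_mem five_le eleven_ne⟩ _)
  · intro i h
    have he : p ⟨L.E (restOf i), L.E_mem _⟩ = el (12 + i.val) := (xl_eq i).symm
    have hx : (⟨el (12 + i.val), h⟩ : DD) = ⟨p ⟨L.E (restOf i), L.E_mem _⟩, he.symm ▸ h⟩ :=
      Subtype.ext he.symm
    rw [MonoidHom.comp_apply, hx]
    exact (congrArg q (hep _ _)).trans (congrArg e (restIdx_restOf i))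

/-- An embedding of the double cover with prescribed images of the nine lifts. -/
theorem exists_hom_of_lifts (e : Fin 9 → K) (z : K) (z_ne : z ≠ 1) (z_sq : z * z = 1)
    (z_comm : ∀ i, Commute z (e i)) (cube : ∀ i, e i ^ 3 = 1)
    (prod_sq : ∀ i j, i ≠ j → (e i * e j) ^ 2 = z) :
    ∃ f : DD →* K, Function.Injective f ∧ f.range = Subgroup.closure (Set.range e) ∧
      f ⟨tt, lifts.t_mem five_le eleven_ne⟩ = z ∧
      ∀ (i : Fin 9) (h : el (12 + i.val) ∈ DD), f ⟨el (12 + i.val), h⟩ = e i := by
  obtain ⟨f, hr, ht, he⟩ := exists_hom_of_rels e z z_sq z_comm cube prod_sq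
  refine ⟨f, ?_, hr, ht, he⟩
  let LK : Lifts (0 : Fin 11) 1 K :=
    { E := fun x => e (restIdx x)
      t := z
      t_ne := z_ne
      t_sq := z_sq
      t_comm := fun x => z_comm _
      cube := fun x => cube _
      prod_sq := fun x y hxy => prod_sq _ _ fun h =>
        hxy (by rw [← restOf_restIdx x, h, restOf_restIdx]) }
  haveI : Finite DD := lifts.grp_finite five_le eleven_ne
  have hg : LK.grp = f.range := by
    rw [hr]
    show Subgroup.closure _ = _
    congr 1
    ext k
    constructor
    · rintro ⟨x, rfl⟩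
      exact ⟨restIdx x, rfl⟩
    · rintro ⟨i, rfl⟩
      exact ⟨restOf i, congrArg e (restIdx_restOf i)⟩
  have hc : Nat.card DD = Nat.card f.range := by
    rw [← hg, lifts.card_grp five_le eleven_ne, LK.card_grp five_le eleven_ne]
  exact (MonoidHom.ker_eq_bot_iff f).1 (Subgroup.eq_bot_of_card_le _ (by
    have := Subgroup.card_eq_card_quotient_mul_card_subgroup f.ker
    rw [Nat.card_congr (QuotientGroup.quotientKerEquivRange f).toEquiv, ← hc] at this
    have hpos : 0 < Nat.card DD := Nat.card_pos
    by_contra hlt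
    nlinarith))

end Cfsg.Agent.LyRec
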