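import Cfsg.Agent.DCoset.Steps

/-!
Derivations that start from one further known fact, as when the subgroup contains a product of a letter of
the model and an extra letter.
-/

namespace Cfsg.Agent.DCoset.Steps

open Cfsg.Agent.CosetCert

variable {G : Type*} [Group G] {D : Steps} {L : Rules} {M : Model G} {T : Nat → G} {Hs : Subgroup G}

/-- Every step is true, if one of them is known and the others check. -/
theorem holds_of_seed {s₀ : Nat} (h₀ : Holds D L M Hs T s₀) (hL : L.Sound M T)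
    (hin : ∀ s, s < D.len → D.kind s = 1 → val M.lv (D.argW s) ∈ Hs)
    (hsrc : ∀ j, 1 ≤ j → j < D.nNode → D.nodeSrc j < j) (hnT : 0 < L.nT)
    (hchk : ∀ s, s < D.len → s ≠ s₀ → check D L M.toTab s = true) :
    ∀ s, s < D.len → Holds D L M Hs T s := by
  intro s
  induction s using Nat.strong_induction_on with
  | _ s ih =>
    intro hs
    have hprev : ∀ p, p < s → Holds D L M Hs T p := fun p hp => ih p hp (by omega)
    rcases eq_or_ne s s₀ with rfl | hne
    · exact h₀
    have hc := hchk s hs hne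
    unfold check at hc
    simp only [force_eq] at hc
    cases h0 : Nat.beq (D.kind s) 0 <;> rw [h0] at hc
    rotate_left
    · -- definition
      simp only [checkDef, force_eq, gate_eq, Bool.and_eq_true] at hc
      obtain ⟨hj, h1, hw, -, hτ, eI, eH, eT, eJ, eK⟩ := hc
      rw [Holds, Nat.eq_of_beq_eq_true eI, Nat.eq_of_beq_eq_true eH, Nat.eq_of_beq_eq_true eT,
        Nat.eq_of_beq_eq_true eJ, Nat.eq_of_beq_eq_true eK]
      refine ⟨Nat.ble_eq.mp hτ, _, _, M.step_word _ hw M.one, M.one, ?_⟩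
      rw [rep_step hsrc (Nat.ble_eq.mp h1) (Nat.ble_eq.mp hj)]
      simp [mul_assoc]
    cases h1 : Nat.beq (D.kind s) 1 <;> rw [h1] at hc
    rotate_left
    · simp only [checkIn, force_eq, gate_eq, Bool.and_eq_true] at hc
      obtain ⟨hw, eI, eH, eT, eJ, eK⟩ := hc
      rw [Holds, Nat.eq_of_beq_eq_true eI, Nat.eq_of_beq_eq_true eH, Nat.eq_of_beq_eq_true eT,
        Nat.eq_of_beq_eq_true eJ, Nat.eq_of_beq_eq_true eK]
      refine ⟨hnT, _, _, M.step_word _ hw M.one, M.one, ?_⟩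
      rw [rep_zero, hL.T_zero]
      simpa using hin s hs (Nat.eq_of_beq_eq_true h1)
    cases h2 : Nat.beq (D.kind s) 2 <;> rw [h2] at hc
    rotate_left
    · simp only [checkRefl, force_eq, gate_eq, Bool.and_eq_true] at hc
      obtain ⟨hw, eI, eH, eT, eJ, eK⟩ := hc
      rw [Holds, Nat.eq_of_beq_eq_true eI, Nat.eq_of_beq_eq_true eH, Nat.eq_of_beq_eq_true eT,
        Nat.eq_of_beq_eq_true eJ, Nat.eq_of_beq_eq_true eK]
      refine ⟨hnT, _, _, M.step_word _ hw M.one, M.step_word _ hw M.one, ?_⟩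
      simp [hL.T_zero]
    cases h3 : Nat.beq (D.kind s) 3 <;> rw [h3] at hc
    rotate_left
    · simp only [checkInv, force_eq, gate_eq, Bool.and_eq_true] at hc
      obtain ⟨hp, eI, eH, eT, eJ, eK⟩ := hc
      obtain ⟨hτ, x, y, hx, hy, hmem⟩ := hprev _ (Nat.ble_eq.mp hp)
      rw [Holds, Nat.eq_of_beq_eq_true eI, Nat.eq_of_beq_eq_true eH, Nat.eq_of_beq_eq_true eT,
        Nat.eq_of_beq_eq_true eJ, Nat.eq_of_beq_eq_true eK]
      obtain ⟨hτ', hinv⟩ := hL.inv_eq _ hτ
      refine ⟨hτ', y, x, hy, hx, ?_⟩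
      rw [eq_inv_of_mul_eq_one_right hinv]
      simpa [mul_assoc] using Hs.inv_mem hmem
    cases h4 : Nat.beq (D.kind s) 4 <;> rw [h4] at hc
    rotate_left
    · simp only [checkShift, force_eq, gate_eq, Bool.and_eq_true] at hc
      obtain ⟨hp, eI, eJ, hrest⟩ := hc
      rw [Holds, Nat.eq_of_beq_eq_true eI, Nat.eq_of_beq_eq_true eJ]
      exact sound_shift hL _ _ _ _ _ hrest (hprev _ (Nat.ble_eq.mp hp))
    cases h5 : Nat.beq (D.kind s) 5 <;> rw [h5] at hc
    rotate_left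
    · simp only [checkComp, force_eq, gate_eq, Bool.and_eq_true] at hc
      obtain ⟨hp, hq, eJI, eKH, eM, eI, eH, eJ, eK⟩ := hc
      obtain ⟨hσ, x, y, hx, hy, h₁⟩ := hprev _ (Nat.ble_eq.mp hp)
      obtain ⟨hτ, y', z, hy', hz, h₂⟩ := hprev _ (Nat.ble_eq.mp hq)
      rw [← Nat.eq_of_beq_eq_true eKH] at hy'
      obtain rfl := M.uniq _ _ _ hy' hy
      rw [← Nat.eq_of_beq_eq_true eJI] at h₂
      have eρ := Nat.eq_of_beq_eq_true eM
      obtain ⟨hρ, hprod⟩ := hL.mul_eq _ _ hσ hτ (by omega)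
      have eρ' : L.mulT (D.fT (D.argA s)) (D.fT (D.argB s)) - 1 = D.fT s := by omega
      rw [eρ'] at hρ hprod
      rw [Holds, Nat.eq_of_beq_eq_true eI, Nat.eq_of_beq_eq_true eH, Nat.eq_of_beq_eq_true eJ,
        Nat.eq_of_beq_eq_true eK]
      refine ⟨hρ, x, z, hx, hz, ?_⟩
      rw [← hprod]
      simpa [mul_assoc] using Hs.mul_mem h₁ h₂
    cases h6 : Nat.beq (D.kind s) 6 <;> rw [h6] at hc
    · simp at hc
    · simp only [checkRel, force_eq, gate_eq, Bool.and_eq_true] at hc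
      obtain ⟨hr, hp, eT, eJ, eK, hrest⟩ := hc
      obtain ⟨hτ, x, y, hx, hy, hmem⟩ := hprev _ (Nat.ble_eq.mp hp)
      have hr' := Nat.ble_eq.mp hr
      obtain ⟨hhd, htl, hW, heq⟩ := hL.rel_ok _ hr'
      rw [Nat.eq_of_beq_eq_true eT] at hmem
      have hlen : 0 + Nat.pred (L.relLen (D.argA s)) + 1 = L.relLen (D.argA s) := by
        rcases Nat.eq_zero_or_pos (L.relLen (D.argA s)) with h | h
        · rw [h] at hrest
          simp only [Nat.pred_zero, relCheck_zero, gate_eq, Bool.and_eq_true] at hrest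
          have := Nat.eq_of_beq_eq_true hrest.1
          omega
        · rw [Nat.pred_eq_sub_one]; omega
      obtain ⟨hτs, z, hz, hres⟩ := sound_rel hL hr' hprev (i := D.fI (D.argB s)) (x := x)
        _ _ _ _ _ hlen hrest ⟨y, hy, by simpa using hmem⟩
      rw [Holds, Nat.eq_of_beq_eq_true eJ, Nat.eq_of_beq_eq_true eK]
      refine ⟨hτs, z, _, hz, M.step_word _ htl hx, ?_⟩
      simpa [mul_assoc] using Hs.inv_mem hres

end Cfsg.Agent.DCoset.Steps
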