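import Cfsg.Agent.LyRec.InP
import Cfsg.Agent.LyRec.Index.Bound
import Cfsg.Agent.LyRec.Sub.Bound

/-!
The configuration gives a homomorphism from the presented group: the amalgam is no larger than it.
-/

set_option autoImplicit false

namespace Cfsg.Agent.LyRec

open Cfsg.Agent.LyLocal InP

theorem od_eq (w : List (Fin 9)) : od w = (w.map odEl).prod := by
  rw [od, liftW, List.map_map]
  rfl

theorem gP_eq : gP = odEl := rfl

variable [IsSimpleGroup P]

/-- The amalgam is no larger than the presented group. -/
theorem am_card (hP : Nat.card P = 51765179004000000) : Finite Am ∧ Nat.card Am ≤ Nat.card P := by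
  obtain ⟨ι, -, hgen, hconj, hrel⟩ := Index.exists_am
  obtain ⟨Hs, hfin, hn, hw, hv⟩ := Sub.sub_bound ι amX amX_sq hconj hrel
  obtain ⟨hA, hle⟩ := Index.am_bound ι hgen hconj hrel Hs hw hv hn
  exact ⟨hA, by rw [hP]; exact hle⟩

/-- A configuration of the true class gives the homomorphism from the presented group. -/
theorem exists_theta [Finite P] (hP : Nat.card P = 51765179004000000) {G : Type*} [Group G] (S : Setting G) {x : G} (h : Conf S 2 x) :
    ∃ θ : P →* G, θ tt = S.t := by
  obtain ⟨θ, hθ, -⟩ := theta_of_bound (am_card hP) xP xP_sq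
    (fun k => by rw [← od_eq, ← od_eq]; exact xP_conj k)
    (fun r => by rw [← od_eq, ← od_eq, ← od_eq]; exact xP_rel r)
    (gP_eq ▸ closure_gP_xP) S x h
  exact ⟨θ, hθ⟩

end Cfsg.Agent.LyRec
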