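import Cfsg.Agent.LyRec.Setting
import Cfsg.Agent.LyRec.RelData
import Cfsg.Agent.LyRec.Alpha.Words
import Cfsg.Agent.LyRec.InP.Check0
import Cfsg.Agent.LyRec.InP.Check1
import Cfsg.Agent.LyRec.InP.Check2

/-!
The presented Lyons group realises the configuration: an involution inducing the third automorphism
on the common centraliser, satisfying both triangle relations and generating with the nine lifts.
-/

set_option autoImplicit false
set_option maxRecDepth 100000

namespace Cfsg.Agent.LyRec.InP

open Cfsg Cfsg.Agent.LyMat Cfsg.Agent.CosetCert Cfsg.Agent.LyLocal Cfsg.Spor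

/-- The word of a word in the nine lifts, relabelled by the outer automorphism. -/
def odW (w : List (Fin 9)) : List Nat := w.map fun i => 12 + (Alpha.odL i).val

/-- The relabelled lifts. -/
def gP (i : Fin 9) : P := el (12 + (Alpha.odL i).val)

/-- The value of a relabelled word. -/
def od (w : List (Fin 9)) : P := liftW (w.map Alpha.odL)

/-- The element exchanging the two marked involutions. -/
def xP : P := elW xW

/-- The element of a letter, the exchanging element being letter 28. -/
def elX (x : Nat) : P := if x < 28 then el x else xP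

/-- The element of a word. -/
def elWX (w : List Nat) : P := (w.map elX).prod

/-- The matrix of a letter. -/
noncomputable def MX (x : Nat) : Matrix (Fin 111) (Fin 111) (ZMod 5) := toMat 111 (rowsOf 111 (XG x))

theorem good_xg_check : ((List.range 29).all fun x => goodC 111 (rowsOf 111 (XG x))) = true := by
  decide +kernel

theorem good_xg (x : Nat) : Good 111 (rowsOf 111 (XG x)) := by
  by_cases hx : x < 29
  · exact good_of_check (List.all_eq_true.1 good_xg_check x (List.mem_range.2 hx))
  · rw [XG, List.getD_eq_default _ _ (by simp [lmat]; omega)]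
    exact good_m111 0

theorem same_spec {w v : List Nat} (h : sameX w v = true) : (w.map MX).prod = (v.map MX).prod := by
  have hI := good_id111
  unfold sameX at h
  rw [mask111_eq] at h
  obtain ⟨P', -, hP, hk⟩ := wordK_spec (by norm_num) XG good_xg w id111
    (fun P => wordK (maskF 111) XG v id111 fun Q => eqB P Q) hI
  rw [hk] at h
  obtain ⟨Q', -, hQ, hk'⟩ := wordK_spec (by norm_num) XG good_xg v id111 (fun Q => eqB P' Q) hI
  rw [hk'] at h
  rw [toMat_one id111_check, one_mul] at hP hQ
  show (w.map fun x => toMat 111 (rowsOf 111 (XG x))).prod =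
    (v.map fun x => toMat 111 (rowsOf 111 (XG x))).prod
  rw [← hP, ← hQ, eqB_eq h]

theorem MX_low {x : Nat} (hx : x < 28) : MX x = MM x := by
  rw [MX, MM, XG, List.getD_append _ _ _ _ (by simp [lmat]; omega)]
  rfl

theorem rep_elX (x : Nat) (hx : x < 29) : rep (elX x) = MX x := by
  by_cases h : x < 28
  · rw [elX, if_pos h, MX_low h]
    exact rep_elF 28 x h (by omega)
  · obtain rfl : x = 28 := by omega
    have hw : xW.all (fun x => Nat.blt x 28) = true := by decide
    rw [elX, if_neg h, xP, rep_elW xW hw]
    have e := same_spec x_word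
    simp only [List.map_cons, List.map_nil, List.prod_cons, List.prod_nil, mul_one] at e
    rw [e]
    exact congrArg List.prod (List.map_congr_left fun y hy =>
      (MX_low (Nat.le_of_ble_eq_true (List.all_eq_true.1 hw y hy))).symm)

variable [IsSimpleGroup P]

theorem eq_of_sameX {w v : List Nat} (h : sameX w v = true) (hw : w.all (fun x => Nat.blt x 29) = true)
    (hv : v.all (fun x => Nat.blt x 29) = true) : elWX w = elWX v := by
  refine rep_injective ?_
  rw [elWX, elWX, map_list_prod, map_list_prod, List.map_map, List.map_map]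
  have key : ∀ u : List Nat, u.all (fun x => Nat.blt x 29) = true → u.map (rep ∘ elX) = u.map MX :=
    fun u hu => List.map_congr_left fun y hy =>
      rep_elX y (Nat.le_of_ble_eq_true (List.all_eq_true.1 hu y hy))
  rw [key w hw, key v hv, same_spec h]

omit [IsSimpleGroup P] in
theorem elWX_odW (w : List (Fin 9)) : elWX (odW w) = od w := by
  simp only [elWX, odW, od, liftW, List.map_map]
  refine congrArg List.prod (List.map_congr_left fun i _ => ?_)
  have := (Alpha.odL i).isLt
  simp only [Function.comp_apply, elX]
  rw [if_pos (by omega)]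

omit [IsSimpleGroup P] in
theorem elX_x : elX 28 = xP := if_neg (by norm_num)

omit [IsSimpleGroup P] in
theorem elWX_append (u v : List Nat) : elWX (u ++ v) = elWX u * elWX v := by
  simp [elWX]

omit [IsSimpleGroup P] in
theorem elWX_single (x : Nat) : elWX [x] = elX x := by simp [elWX]

omit [IsSimpleGroup P] in
theorem odW_lt (w : List (Fin 9)) : (odW w).all (fun x => Nat.blt x 29) = true := by
  refine List.all_eq_true.2 fun y hy => ?_
  obtain ⟨i, -, rfl⟩ := List.mem_map.1 hy
  have := (Alpha.odL i).isLt
  simpa [Nat.blt_eq] using (by omega : 12 + (Alpha.odL i).val < 29)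

theorem xP_sq : xP * xP = 1 := by
  have := eq_of_sameX x_sq (by decide) (by decide)
  simpa [elWX, elX_x] using this

theorem xP_conj (k : Fin 3) : xP * od (Alpha.gen k) * xP = od (Alpha.img 2 k) := by
  have h : sameX ([28] ++ odW (Alpha.gen k) ++ [28]) (odW (Alpha.img 2 k)) = true := by
    fin_cases k
    exacts [x_conj0, x_conj1, x_conj2]
  have := eq_of_sameX h (by simp [List.all_append, odW_lt]) (odW_lt _)
  simpa only [elWX_append, elWX_single, elWX_odW, elX_x] using this

theorem xP_rel (r : Fin 2) :
    xP * od (relG 2 r) * xP * od (relH 2 r) * xP = od (relY 2 r) := by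
  have h : sameX ([28] ++ odW (relG 2 r) ++ [28] ++ odW (relH 2 r) ++ [28]) (odW (relY 2 r)) = true := by
    fin_cases r
    exacts [x_rel0, x_rel1]
  have := eq_of_sameX h (by simp [List.all_append, odW_lt]) (odW_lt _)
  simpa only [elWX_append, elWX_single, elWX_odW, elX_x] using this

/-- The lifts and the exchanging element generate the presented group. -/
theorem closure_gP_xP : Subgroup.closure (Set.range gP ∪ {xP}) = ⊤ := by
  set K := Subgroup.closure (Set.range gP ∪ {xP}) with hK
  have hodd : ∀ i, Alpha.odL (Alpha.odL i) = i := by decide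
  have hlet : ∀ y, (12 ≤ y ∧ y < 21) ∨ y = 28 → elX y ∈ K := by
    rintro y (⟨h1, h2⟩ | rfl)
    · refine Subgroup.subset_closure (Or.inl ⟨Alpha.odL ⟨y - 12, by omega⟩, ?_⟩)
      rw [gP, hodd, elX, if_pos (by omega)]
      exact congrArg el (by simp only []; omega)
    · rw [elX_x]; exact Subgroup.subset_closure (Or.inr rfl)
  have hwd : ∀ w ∈ genWords, ∀ y ∈ w, (12 ≤ y ∧ y < 21) ∨ y = 28 := by decide
  have hgen : ∀ a < 5, el a ∈ K := by
    intro a ha
    have h : sameX [a] (genWords.getD a []) = true := by
      interval_cases a
      exacts [gen_word0, gen_word1, gen_word2, gen_word3, gen_word4]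
    have hlen : a < genWords.length := by
      simpa [genWords] using ha
    have hmem : genWords.getD a [] ∈ genWords := by
      rw [List.getD_eq_getElem _ _ hlen]; exact List.getElem_mem hlen
    have hv : (genWords.getD a []).all (fun x => Nat.blt x 29) = true :=
      List.all_eq_true.2 fun y hy => by
        rcases hwd _ hmem y hy with ⟨-, h2⟩ | h2 <;> simp only [Nat.blt_eq] <;> omega
    have e := eq_of_sameX h (by simp [Nat.blt_eq]; omega) hv
    rw [elWX_single, elX, if_pos (by omega)] at e
    rw [e]
    refine Subgroup.list_prod_mem _ fun p hp => ?_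
    obtain ⟨y, hy, rfl⟩ := List.mem_map.1 hp
    exact hlet y (hwd _ hmem y hy)
  refine eq_top_iff.2 ?_
  rw [← PresentedGroup.closure_range_of lyRels, Subgroup.closure_le]
  rintro _ ⟨g, rfl⟩
  let u : Fin 5 → P := fun i => el i.val
  have hu : ∀ i, lyRep (u i) = unitOf M111 inv111 i := fun i => Units.ext (by
    have h := rep_elF 28 i.val (by omega) (by omega)
    rw [MM_eq i.val (by omega)] at h
    exact h)
  have hof : ∀ g, PresentedGroup.of g = genImg u g := fun g => rep_injective (by
    have e : lyRep.comp (FreeGroup.lift u) = FreeGroup.lift (unitOf M111 inv111) :=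
      FreeGroup.ext_hom _ _ (by intro i; simp [hu])
    rw [rep_of, genImg, genImg, ← e]
    rfl)
  show PresentedGroup.of g ∈ K
  rw [hof g, genImg]
  have hle : (FreeGroup.lift u).range ≤ K := by
    rw [FreeGroup.range_lift_eq_closure, Subgroup.closure_le]
    rintro _ ⟨i, rfl⟩
    exact hgen i.val i.isLt
  exact hle ⟨_, rfl⟩

end Cfsg.Agent.LyRec.InP
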