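import Cfsg.Agent.S1702
import Cfsg.Agent.S1710
import Cfsg.Prelude.Def_SporadicB

/-!
# Consequences of an isomorphism with the presented Lyons group
-/

set_option autoImplicit false

namespace Cfsg.Agent.LyRec

universe u v

/-- A group isomorphic to the presented Lyons group is of Lyons type. -/
theorem isLy_of_isoLy {G : Type u} [Group G] (h : Cfsg.Spor.IsoLy G) : Cfsg.IsLy G := by
  obtain ⟨e⟩ := h
  obtain ⟨hs, hc⟩ := Cfsg.Agent.S1702.result
  haveI := hs
  exact ⟨e.isSimpleGroup, (Nat.card_congr e.toEquiv).trans hc⟩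

/-- Two groups isomorphic to the presented Lyons group are isomorphic. -/
theorem mulEquiv_of_isoLy {G : Type u} [Group G] {H : Type v} [Group H]
    (hG : Cfsg.Spor.IsoLy G) (hH : Cfsg.Spor.IsoLy H) : Nonempty (G ≃* H) := by
  obtain ⟨e⟩ := hG
  obtain ⟨f⟩ := hH
  exact ⟨e.trans f.symm⟩

/-- A group isomorphic to the presented Lyons group contains the Chevalley group of type G₂
over the field with five elements. -/
theorem g2_of_isoLy {G : Type u} [Group G] (h : Cfsg.Spor.IsoLy G) :
    ∃ (H : Subgroup G) (K : Type) (_ : Field K) (_ : Fintype K), Fintype.card K = 5 ∧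
      Nonempty (H ≃* Cfsg.Lie.chevG2.group K) := by
  obtain ⟨e⟩ := h
  obtain ⟨K, i1, i2, hc, ⟨f⟩⟩ := Cfsg.Agent.S1710.result
  exact ⟨_, K, i1, i2, hc, ⟨(e.symm.subgroupMap _).symm.trans f⟩⟩

end Cfsg.Agent.LyRec
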