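import Cfsg.Agent.LyRec.Top
import Cfsg.Agent.LyRec.Wrap

/-!
The recognition rows of the Lyons group, given a homomorphism of the presented group that hits the involution.
-/

set_option autoImplicit false
set_option linter.style.haveILetI false

namespace Cfsg.Agent.LyRec

open Subgroup

theorem card_of_cover {G : Type*} [Group G] [Finite G] {t : G}
    (h : Cfsg.IsNonsplitDoubleCover (centralizer ({t} : Set G)) (alternatingGroup (Fin 11))) :
    Nat.card (centralizer ({t} : Set G)) = 39916800 := by
  obtain ⟨h2, ⟨e⟩, -⟩ := h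
  rw [card_eq_card_quotient_mul_card_subgroup (center (centralizer ({t} : Set G))), h2, Nat.card_congr e.toEquiv,
    nat_card_alternatingGroup, Nat.card_fin]
  decide

/-- The identification, given the homomorphism. -/
theorem isoLy_of_hom {G : Type*} [Group G] [Finite G] {t : G} (ht : orderOf t = 2)
    (h : Cfsg.IsNonsplitDoubleCover (centralizer ({t} : Set G)) (alternatingGroup (Fin 11)))
    (θ : LyLocal.P →* G) (hθ : θ LyLocal.tt = t) : Cfsg.Spor.IsoLy G :=
  ⟨(MulEquiv.ofBijective θ (range_top θ ht (card_of_cover h) hθ)).symm⟩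

/-- The centraliser of an involution of a group isomorphic to the presented one has order `11!`. -/
theorem card_centralizer_isoLy {H : Type*} [Group H] (hH : Cfsg.Spor.IsoLy H) {t : H} (ht : orderOf t = 2) :
    Nat.card (centralizer ({t} : Set H)) = 39916800 := by
  obtain ⟨e⟩ := hH
  haveI := LyLocal.certData.simple
  haveI := LyLocal.certData.facts.1
  have hC : Nat.card (centralizer ({LyLocal.tt} : Set LyLocal.P)) = 39916800 := by
    rw [LyLocal.centralizer_eq LyLocal.certData.facts.2.1 LyLocal.certData.central, LyLocal.card_DD]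
  obtain ⟨g, hg⟩ := isConj_iff.1 (one_class (x := e t) (by
    rw [← orderOf_injective e.toMonoidHom e.injective t] at ht; exact ht))
  refine (Nat.card_congr (((e.toEquiv.trans (MulAut.conj g⁻¹).toEquiv)).subtypeEquiv fun x => ?_)).trans hC
  rw [mem_centralizer_singleton_iff, mem_centralizer_singleton_iff]
  show x * t = t * x ↔ g⁻¹ * e x * g⁻¹⁻¹ * LyLocal.tt = LyLocal.tt * (g⁻¹ * e x * g⁻¹⁻¹)
  refine ⟨fun h => ?_, fun h => e.injective ?_⟩
  · have h' : e x * e t = e t * e x := by rw [← map_mul, h, map_mul]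
    rw [show LyLocal.tt = g⁻¹ * e t * g by rw [← hg]; group]
    calc g⁻¹ * e x * g⁻¹⁻¹ * (g⁻¹ * e t * g) = g⁻¹ * (e x * e t) * g := by group
      _ = g⁻¹ * e t * g * (g⁻¹ * e x * g⁻¹⁻¹) := by rw [h']; group
  · rw [map_mul, map_mul, ← hg]
    calc e x * (g * LyLocal.tt * g⁻¹) = g * (g⁻¹ * e x * g⁻¹⁻¹ * LyLocal.tt) * g⁻¹ := by group
      _ = g * LyLocal.tt * g⁻¹ * e x := by rw [h]; group

/-- No subgroup of odd order is transitive on the involutions of the Lyons group. -/
theorem no_odd_transitive {H : Type*} [Group H] [Finite H] (hH : Cfsg.Spor.IsoLy H) (D : Subgroup H)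
    (hodd : Odd (Nat.card D)) (t : H) (ht : orderOf t = 2)
    (htr : ∀ g : H, ∃ d ∈ D, d * t * d⁻¹ = g * t * g⁻¹) : False := by
  have hcard := card_centralizer_isoLy hH ht
  obtain ⟨e⟩ := hH
  have hcH : Nat.card H = 51765179004000000 := (Nat.card_congr e.toEquiv).trans LyLocal.certData.facts.2.1
  refine odd_hall D hodd ?_ (hcH ▸ card_subgroup_dvd_card D) fun x _ y _ hx hy hxy =>
    no_commute (x := e x) (y := e y) ((orderOf_injective e.toMonoidHom e.injective x).trans hx)
      ((orderOf_injective e.toMonoidHom e.injective y).trans hy)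
      ((map_mul e x y).symm.trans ((congrArg e hxy).trans (map_mul e y x)))
  have hidx : (centralizer ({t} : Set H)).index = 1296826875 := by
    have h1 := (centralizer ({t} : Set H)).card_mul_index
    rw [hcard, hcH] at h1
    omega
  have hsurj : Function.Surjective (fun d : D => (QuotientGroup.mk (d : H) : H ⧸ centralizer ({t} : Set H))) := by
    intro q
    obtain ⟨g, rfl⟩ := QuotientGroup.mk_surjective q
    obtain ⟨d, hd, hdg⟩ := htr g
    refine ⟨⟨d, hd⟩, QuotientGroup.eq.2 (mem_centralizer_singleton_iff.2 ?_)⟩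
    calc d⁻¹ * g * t = d⁻¹ * (g * t * g⁻¹) * g := by group
      _ = t * (d⁻¹ * g) := by rw [← hdg]; group
  refine ⟨Nat.card ((centralizer ({t} : Set H)).subgroupOf D), ?_⟩
  rw [← hidx, ← ((centralizer ({t} : Set H)).subgroupOf D).card_mul_index, mul_comm]
  congr 1
  rw [index_eq_card, index_eq_card]
  refine (Nat.card_congr (Equiv.ofBijective (fun q : D ⧸ (centralizer ({t} : Set H)).subgroupOf D =>
    Quotient.liftOn' q (fun d : D => (QuotientGroup.mk (d : H) : H ⧸ centralizer ({t} : Set H)))
      fun a b h => QuotientGroup.eq.2 (mem_subgroupOf.1 (QuotientGroup.leftRel_apply.1 h))) ⟨?_, ?_⟩))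
  · intro a b h
    obtain ⟨a, rfl⟩ := QuotientGroup.mk_surjective a
    obtain ⟨b, rfl⟩ := QuotientGroup.mk_surjective b
    exact QuotientGroup.eq.2 (mem_subgroupOf.2 (QuotientGroup.eq.1 (h :)))
  · intro q
    obtain ⟨d, hd⟩ := hsurj q
    exact ⟨QuotientGroup.mk d, hd⟩

end Cfsg.Agent.LyRec
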