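import Cfsg.Agent.LyRec.Glue
import Cfsg.Agent.LyRec.Config
import Cfsg.Agent.LyRec.Rows

/-!
A finite simple group with an involution centraliser of Lyons type is the presented Lyons group.
-/

set_option autoImplicit false

namespace Cfsg.Agent.LyRec

open Cfsg.Agent.LyLocal

/-- Recognition by the centraliser of an involution. -/
theorem isoLy_of_centralizer {G : Type*} [Group G] [Finite G] [IsSimpleGroup G] (t : G)
    (ht : orderOf t = 2)
    (hcov : Cfsg.IsNonsplitDoubleCover (Subgroup.centralizer ({t} : Set G))
      (alternatingGroup (Fin 11))) : Cfsg.Spor.IsoLy G := by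
  have := LyLocal.certData.simple
  have := LyLocal.certData.facts.1
  obtain ⟨S, rfl⟩ := exists_setting t ht hcov
  obtain ⟨S', x, hS, hC⟩ := exists_conf S
  obtain ⟨θ, hθ⟩ := exists_theta LyLocal.certData.facts.2.1 S' hC
  exact isoLy_of_hom ht hcov θ (hθ.trans hS)

end Cfsg.Agent.LyRec
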