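import Cfsg.Agent.LyLocal.Cert
import Cfsg.Agent.Invol.SEPairs
import Cfsg.Agent.Automizer4411.HallPair
import Cfsg.Agent.Fusion.SolvablePSolvable
import Cfsg.Agent.S0205

/-!
A homomorphism of the presented Lyons group onto the centraliser of an involution is onto the group.
-/

set_option autoImplicit false
set_option maxRecDepth 100000
set_option linter.unusedSectionVars false
set_option linter.style.haveILetI false

namespace Cfsg.Agent.LyRec

open Subgroup

/-- A subgroup of odd order, of order dividing that of the Lyons group and divisible by its number of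
involutions, has commuting elements of orders 31 and 37. -/
theorem odd_hall {G : Type*} [Group G] [Finite G] (D : Subgroup G) (hDodd : Odd (Nat.card D))
    (hdvd : 1296826875 ∣ Nat.card D) (hDdvd : Nat.card D ∣ 51765179004000000)
    (hno : ∀ x ∈ D, ∀ y ∈ D, orderOf x = 31 → orderOf y = 37 → x * y ≠ y * x) : False := by
  have hsol : Group.IsSolvable D := Cfsg.Agent.S0205.result hDodd
  -- Hall subgroup for 31 and 37
  haveI : Fact (Nat.Prime 31) := ⟨by norm_num⟩
  haveI : Fact (Nat.Prime 37) := ⟨by norm_num⟩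
  haveI := hsol
  obtain ⟨K, hK, hK31, hK37⟩ := Automizer4411.exists_pairHall (p := 31) (q := 37) D
    (Fusion.isPSolvable_of_isSolvable D)
  have hKH : Nat.card K ∣ 51765179004000000 :=
    (card_subgroup_dvd_card K).trans hDdvd
  have h31 : 31 ∣ Nat.card K := by
    have h := dvd_trans (show (31 : ℕ) ∣ 1296826875 by norm_num) hdvd
    rw [← K.card_mul_index] at h
    exact ((Nat.Prime.dvd_mul (by norm_num)).1 h).resolve_right hK31
  have h37 : 37 ∣ Nat.card K := by
    have h := dvd_trans (show (37 : ℕ) ∣ 1296826875 by norm_num) hdvd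
    rw [← K.card_mul_index] at h
    exact ((Nat.Prime.dvd_mul (by norm_num)).1 h).resolve_right hK37
  have hKcard : Nat.card K = 1147 := by
    refine Nat.dvd_antisymm ?_ (Nat.Coprime.mul_dvd_of_dvd_of_dvd (by norm_num : Nat.Coprime 31 37) h31 h37)
    have hcop : (Nat.card K).Coprime 45130932000000 := Nat.coprime_of_dvd fun r hr hrK hr' => by
      rcases hK r hr hrK with rfl | rfl <;> norm_num at hr'
    exact hcop.dvd_of_dvd_mul_left (by rwa [show (45130932000000 : ℕ) * 1147 = 51765179004000000 by norm_num])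
  have hnormal : ∀ p q : ℕ, p.Prime → q.Prime → p * q = 1147 → q % p ≠ 1 → ∀ [Fact p.Prime],
      ∀ P : Sylow p K, (P : Subgroup K).Normal := by
    intro p q hp hq hpq hmod _ P
    have h1 : Nat.card (Sylow p K) ≡ 1 [MOD p] := card_sylow_modEq_one p K
    have h2 : Nat.card (Sylow p K) ∣ q := by
      have h := P.card_dvd_index
      have h3 : (P : Subgroup K).index ∣ q := by
        have h4 : (P : Subgroup K).index ∣ p * q := hpq ▸ hKcard ▸ index_dvd_card _
        exact (Nat.Coprime.dvd_of_dvd_mul_left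
          ((hp.coprime_iff_not_dvd.2 P.not_dvd_index).symm) h4)
      exact h.trans h3
    have h5 : Nat.card (Sylow p K) = 1 := by
      rcases (Nat.dvd_prime hq).1 h2 with h | h
      · exact h
      · rw [h] at h1
        exact absurd (Eq.trans h1 (Nat.mod_eq_of_lt hp.one_lt)) hmod
    haveI : Subsingleton (Sylow p K) := (Nat.card_eq_one_iff_unique.1 h5).1
    exact Sylow.normal_of_subsingleton P
  obtain ⟨P⟩ : Nonempty (Sylow 31 K) := inferInstance
  obtain ⟨Q⟩ : Nonempty (Sylow 37 K) := inferInstance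
  have hP := hnormal 31 37 (by norm_num) (by norm_num) (by norm_num) (by norm_num) P
  have hQ := hnormal 37 31 (by norm_num) (by norm_num) (by norm_num) (by norm_num) Q
  obtain ⟨x, hx⟩ := exists_prime_orderOf_dvd_card' (G := (P : Subgroup K)) 31 (P.dvd_card_of_dvd_card h31)
  obtain ⟨y, hy⟩ := exists_prime_orderOf_dvd_card' (G := (Q : Subgroup K)) 37 (Q.dvd_card_of_dvd_card h37)
  have hdisj : Disjoint (P : Subgroup K) (Q : Subgroup K) := IsPGroup.disjoint_of_ne 31 37 (by norm_num) _ _ P.2 Q.2
  have hcomm : Commute (x : K) (y : K) := Subgroup.commute_of_normal_of_disjoint _ _ hP hQ hdisj _ _ x.2 y.2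
  exact hno (((x : K) : D) : G) (((x : K) : D)).2 (((y : K) : D) : G) (((y : K) : D)).2
    (by rw [Subgroup.orderOf_coe, Subgroup.orderOf_coe, Subgroup.orderOf_coe, hx])
    (by rw [Subgroup.orderOf_coe, Subgroup.orderOf_coe, Subgroup.orderOf_coe, hy])
    (by simpa using congrArg (fun k : K => ((k : D) : G)) hcomm.eq)

/-- An involution centraliser of order `11!` in a subgroup of the order of the Lyons group with one
class of involutions and no commuting elements of orders 31 and 37: the subgroup is everything. -/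
theorem top_of {G : Type*} [Group G] [Finite G] (H : Subgroup G) {t : G} (ht : orderOf t = 2) (htH : t ∈ H)
    (hC : centralizer ({t} : Set G) ≤ H) (hcC : Nat.card (centralizer ({t} : Set G)) = 39916800)
    (hcH : Nat.card H = 51765179004000000)
    (hone : ∀ a ∈ H, orderOf a = 2 → ∃ h ∈ H, h * t * h⁻¹ = a)
    (hno : ∀ x ∈ H, ∀ y ∈ H, orderOf x = 31 → orderOf y = 37 → x * y ≠ y * x) : H = ⊤ := by
  by_contra hne
  have hSE : Cfsg.IsStronglyEmbedded H := by
    refine (Invol.se_iff H).2 ⟨hne, by rw [hcH]; decide, fun s g hs hsH hsg => ?_⟩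
    obtain ⟨h₁, hh₁, e₁⟩ := hone s hsH hs
    obtain ⟨h₂, hh₂, e₂⟩ := hone _ hsg (by
      rw [show g⁻¹ * s * g = g⁻¹ * s * g⁻¹⁻¹ by group, Invol.orderOf_conj, hs])
    have hk : h₁⁻¹ * g * h₂ ∈ H := hC (mem_centralizer_singleton_iff.2 (by
      have e : h₂ * t * h₂⁻¹ = g⁻¹ * (h₁ * t * h₁⁻¹) * g := by rw [e₂, e₁]
      calc h₁⁻¹ * g * h₂ * t = h₁⁻¹ * g * (h₂ * t * h₂⁻¹) * h₂ := by group
        _ = t * (h₁⁻¹ * g * h₂) := by rw [e]; group))
    have := mul_mem (mul_mem hh₁ hk) (inv_mem hh₂)
    rwa [show h₁ * (h₁⁻¹ * g * h₂) * h₂⁻¹ = g by group] at this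
  -- an involution outside
  obtain ⟨g, hg⟩ : ∃ g, g ∉ H := by
    by_contra hall
    push Not at hall
    exact hne ((eq_top_iff' H).2 hall)
  set u := g * t * g⁻¹ with hu
  have hu2 : orderOf u = 2 := (Invol.orderOf_conj g t).trans ht
  have huH : u ∉ H := fun h => hg (inv_mem_iff.1 (Invol.se_mem hSE ht htH (g := g⁻¹) (by rwa [inv_inv])))
  set D := H ⊓ H.map (MulAut.conj u).toMonoidHom with hD
  have hDodd : Odd (Nat.card D) := hSE.2.2 u huH
  -- transitive on the involutions of `H`
  let f : D → G := fun d => (d : G) * t * (d : G)⁻¹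
  have hrange : Set.range f = {a : G | a ∈ H ∧ orderOf a = 2} := by
    ext a
    constructor
    · rintro ⟨d, rfl⟩
      exact ⟨mul_mem (mul_mem d.2.1 htH) (inv_mem d.2.1), (Invol.orderOf_conj _ t).trans ht⟩
    · rintro ⟨haH, ha⟩
      obtain ⟨d, hd, e⟩ := Invol.se_inter_transitive hSE hu2 huH ht htH ha haH
      exact ⟨⟨d, hd⟩, e⟩
  have hclass : Nat.card {a : G | a ∈ H ∧ orderOf a = 2} = (centralizer ({t} : Set G)).relIndex H := by
    let St := (centralizer ({t} : Set G)).subgroupOf H
    have hc : ∀ a b : H, a⁻¹ * b ∈ St → (a : G) * t * (a : G)⁻¹ = (b : G) * t * (b : G)⁻¹ := fun a b h => by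
      have h' := mem_centralizer_singleton_iff.1 (mem_subgroupOf.1 h)
      simp only [Subgroup.coe_mul, Subgroup.coe_inv] at h'
      calc (a : G) * t * (a : G)⁻¹ = a * (t * ((a : G)⁻¹ * b)) * (b : G)⁻¹ := by group
        _ = (b : G) * t * (b : G)⁻¹ := by rw [← h']; group
    refine (Nat.card_congr (Equiv.ofBijective (fun q : H ⧸ St => (⟨Quotient.liftOn' q
      (fun a : H => (a : G) * t * (a : G)⁻¹) fun a b h => hc a b (QuotientGroup.leftRel_apply.1 h), ?_⟩ :
        {a : G | a ∈ H ∧ orderOf a = 2})) ⟨?_, ?_⟩)).symm.trans rfl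
    · obtain ⟨a, rfl⟩ := QuotientGroup.mk_surjective q
      exact ⟨mul_mem (mul_mem a.2 htH) (inv_mem a.2), (Invol.orderOf_conj _ t).trans ht⟩
    · intro p q e
      obtain ⟨a, rfl⟩ := QuotientGroup.mk_surjective p
      obtain ⟨b, rfl⟩ := QuotientGroup.mk_surjective q
      have e' : (a : G) * t * (a : G)⁻¹ = (b : G) * t * (b : G)⁻¹ := congrArg Subtype.val e
      refine QuotientGroup.eq.2 (mem_subgroupOf.2 (mem_centralizer_singleton_iff.2 ?_))
      simp only [Subgroup.coe_mul, Subgroup.coe_inv]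
      calc (a : G)⁻¹ * b * t = (a : G)⁻¹ * ((b : G) * t * (b : G)⁻¹) * b := by group
        _ = t * ((a : G)⁻¹ * b) := by rw [← e']; group
    · rintro ⟨a, haH, ha⟩
      obtain ⟨h, hh, e⟩ := hone a haH ha
      exact ⟨QuotientGroup.mk ⟨h, hh⟩, Subtype.ext e⟩
  have hm : Nat.card {a : G | a ∈ H ∧ orderOf a = 2} = 1296826875 := by
    have h1 := (centralizer ({t} : Set G)).subgroupOf H |>.card_mul_index
    rw [Nat.card_congr (subgroupOfEquivOfLe hC).toEquiv, hcC, hcH] at h1
    rw [hclass]
    show ((centralizer ({t} : Set G)).subgroupOf H).index = _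
    omega
  have hdvd : 1296826875 ∣ Nat.card D := by
    let St : Subgroup D := (centralizer ({t} : Set G)).subgroupOf D
    refine ⟨Nat.card St, ?_⟩
    rw [← hm, ← St.card_mul_index, mul_comm]
    congr 1
    rw [index_eq_card]
    refine (Nat.card_congr (Equiv.ofBijective (fun q : D ⧸ St => (⟨Quotient.liftOn' q f fun a b h => ?_, ?_⟩ :
      {a : G | a ∈ H ∧ orderOf a = 2})) ⟨?_, ?_⟩))
    · have h' := mem_centralizer_singleton_iff.1 (mem_subgroupOf.1 (QuotientGroup.leftRel_apply.1 h))
      simp only [Subgroup.coe_mul, Subgroup.coe_inv] at h'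
      calc (a : G) * t * (a : G)⁻¹ = a * (t * ((a : G)⁻¹ * b)) * (b : G)⁻¹ := by group
        _ = (b : G) * t * (b : G)⁻¹ := by rw [← h']; group
    · obtain ⟨a, rfl⟩ := QuotientGroup.mk_surjective q
      exact hrange.le ⟨a, rfl⟩
    · intro p q e
      obtain ⟨a, rfl⟩ := QuotientGroup.mk_surjective p
      obtain ⟨b, rfl⟩ := QuotientGroup.mk_surjective q
      have e' : (a : G) * t * (a : G)⁻¹ = (b : G) * t * (b : G)⁻¹ := congrArg Subtype.val e
      refine QuotientGroup.eq.2 (mem_subgroupOf.2 (mem_centralizer_singleton_iff.2 ?_))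
      simp only [Subgroup.coe_mul, Subgroup.coe_inv]
      calc (a : G)⁻¹ * b * t = (a : G)⁻¹ * ((b : G) * t * (b : G)⁻¹) * b := by group
        _ = t * ((a : G)⁻¹ * b) := by rw [← e']; group
    · rintro ⟨a, ha⟩
      obtain ⟨d, e⟩ := hrange.symm.le ha
      exact ⟨QuotientGroup.mk d, Subtype.ext e⟩
  exact odd_hall D hDodd hdvd (hcH ▸ card_dvd_of_le inf_le_left)
    fun x hx y hy => hno x hx.1 y hy.1

open Cfsg.Agent.LyLocal Cfsg.Agent.LyThree

theorem dvd31 : ∀ m : Fin 5, 31 ∣ ![5859000000, 300000, 6048, 2880, 1008] m → m = 0 := by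
  decide

/-- An element of order 31 of the presented group commutes with none of order 37. -/
theorem no_commute {x y : P} (hx : orderOf x = 31) (hy : orderOf y = 37) : x * y ≠ y * x := by
  classical
  haveI := certData.simple
  haveI := certData.facts.1
  haveI : Fact (Nat.Prime 31) := ⟨by norm_num⟩
  obtain ⟨O⟩ := LyThree.orbits_of certData.D certData.C certData.steps certData.src certData.valid certData.sum
    certData.facts.2.2 certData.live certData.mem
  intro hxy
  obtain ⟨q, hq⟩ := exists_prime_orderOf_dvd_card' (G := LyMat.Q) 31 (by rw [LyThree.q_card]; norm_num)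
  have hiq : orderOf (iota q) = 31 := by rw [orderOf_injective iota iota_injective, hq]
  have hcard : ∀ {a : P}, orderOf a = 31 → Nat.card (zpowers a) = 31 ^ (Nat.card P).factorization 31 := fun ha => by
    rw [Nat.card_zpowers, ha, certData.facts.2.1, show (51765179004000000 : ℕ) = 31 * 1669844484000000 by norm_num,
      Nat.factorization_mul (by norm_num) (by norm_num), Finsupp.add_apply,
      Nat.Prime.factorization_self (by norm_num),
      Nat.factorization_eq_zero_of_not_dvd (by norm_num : ¬ 31 ∣ 1669844484000000)]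
    norm_num
  obtain ⟨g, hg⟩ := MulAction.exists_smul_eq P (Sylow.ofCard _ (hcard hx)) (Sylow.ofCard _ (hcard hiq))
  have hmem : g * x * g⁻¹ ∈ zpowers (iota q) := by
    have h := Subgroup.smul_mem_pointwise_smul x (MulAut.conj g) _ (mem_zpowers x)
    have e := congrArg Sylow.toSubgroup hg
    rw [Sylow.coe_subgroup_smul, Sylow.coe_ofCard, Sylow.coe_ofCard] at e
    rw [← e]
    exact h
  obtain ⟨i, hi⟩ := hmem
  set q' := q ^ i with hq'
  have hx' : iota q' = g * x * g⁻¹ := by rw [hq', map_zpow]; exact hi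
  set c := g * y * g⁻¹ with hc
  have hcx : iota q' * c = c * iota q' := by
    rw [hx', hc, show g * x * g⁻¹ * (g * y * g⁻¹) = g * (x * y) * g⁻¹ by group, hxy]
    group
  have hbase : iota q' • (QuotientGroup.mk 1 : X) = QuotientGroup.mk 1 := by
    rw [MulAction.Quotient.smul_mk, smul_eq_mul, mul_one, QuotientGroup.eq]
    simpa using inv_mem (⟨q', rfl⟩ : iota q' ∈ iota.range)
  set w : X := c • (QuotientGroup.mk 1 : X) with hw
  have hwfix : iota q' • w = w := by rw [hw, ← mul_smul, hcx, mul_smul, hbase]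
  obtain ⟨m, a, hma⟩ := O.cover w
  have hSt : a⁻¹ * q' * a ∈ St (O.pt m) := (St_smul a (O.pt m) q').1 (by rw [← hma]; exact hwfix)
  have ho : orderOf (a⁻¹ * q' * a) = 31 := by
    rw [← orderOf_injective iota iota_injective, map_mul, map_mul, map_inv, hx',
      show (iota a)⁻¹ * (g * x * g⁻¹) * iota a = (iota a)⁻¹ * (g * x * g⁻¹) * (iota a)⁻¹⁻¹ by group,
      Invol.orderOf_conj, Invol.orderOf_conj, hx]
  have hdvd : 31 ∣ ![5859000000, 300000, 6048, 2880, 1008] m := O.card m ▸ ho ▸ Subgroup.orderOf_dvd_natCard _ hSt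
  obtain rfl : m = 0 := dvd31 m hdvd
  rw [O.zero, MulAction.Quotient.smul_mk, smul_eq_mul, mul_one] at hma
  have hcr : c ∈ iota.range := by
    have h1 : (QuotientGroup.mk c : X) = QuotientGroup.mk (iota a) := by
      rw [← hma, hw, MulAction.Quotient.smul_mk, smul_eq_mul, mul_one]
    have := mul_mem (⟨a, rfl⟩ : iota a ∈ iota.range) (inv_mem (QuotientGroup.eq.1 h1))
    simpa using this
  have h37 : orderOf c ∣ 5859000000 := by
    obtain ⟨b, hb⟩ := hcr
    rw [← hb, orderOf_injective iota iota_injective, ← LyThree.q_card]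
    exact orderOf_dvd_natCard b
  rw [hc, Invol.orderOf_conj, hy] at h37
  norm_num at h37

/-- All involutions of the presented group are conjugate to the distinguished one. -/
theorem one_class {x : P} (hx : orderOf x = 2) : IsConj tt x := by
  haveI := certData.simple
  haveI := certData.facts.1
  haveI : Fact (Nat.Prime 2) := ⟨Nat.prime_two⟩
  obtain ⟨T, hT⟩ := (IsPGroup.of_card (n := 1) (show Nat.card (zpowers x) = 2 ^ 1 by
    rw [Nat.card_zpowers, hx]; rfl)).exists_le_sylow
  obtain ⟨SD⟩ : Nonempty (Sylow 2 DD) := inferInstance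
  obtain ⟨T', hT'⟩ := (SD.2.map DD.subtype).exists_le_sylow
  have hle : (T' : Subgroup P) ≤ DD := by
    have he : (SD : Subgroup DD).map DD.subtype = T' := by
      refine Subgroup.eq_of_le_of_card_ge hT' ?_
      rw [card_map_of_injective DD.subtype_injective, SD.card_eq_multiplicity, T'.card_eq_multiplicity, card_DD,
        certData.facts.2.1, show (51765179004000000 : ℕ) = 2 ^ 8 * 202207730484375 by norm_num,
        show (39916800 : ℕ) = 2 ^ 8 * 155925 by norm_num, Nat.factorization_mul (by norm_num) (by norm_num),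
        Nat.factorization_mul (by norm_num) (by norm_num), Finsupp.add_apply, Finsupp.add_apply,
        Nat.factorization_eq_zero_of_not_dvd (by norm_num : ¬ 2 ∣ 202207730484375),
        Nat.factorization_eq_zero_of_not_dvd (by norm_num : ¬ 2 ∣ 155925)]
    rw [← he]
    exact map_subtype_le _
  obtain ⟨g, hg⟩ := MulAction.exists_smul_eq P T T'
  have hmem : g * x * g⁻¹ ∈ DD := hle (by
    rw [← hg]
    exact Subgroup.smul_mem_pointwise_smul x (MulAut.conj g) _ (hT (mem_zpowers x)))
  have hx2 : x * x = 1 := by rw [← pow_two, ← hx, pow_orderOf_eq_one]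
  have := isConj_of_sq hmem (fun e => by rw [conj_eq_one_iff] at e; rw [e, orderOf_one] at hx; norm_num at hx)
    (by rw [show g * x * g⁻¹ * (g * x * g⁻¹) = g * (x * x) * g⁻¹ by group, hx2, mul_one, mul_inv_cancel])
  exact this.trans (isConj_iff.2 ⟨g⁻¹, by group⟩)

/-- A homomorphism carrying the distinguished involution to one with a centraliser of order `11!` is
an isomorphism. -/
theorem range_top {G : Type*} [Group G] [Finite G] (θ : P →* G) {t : G} (ht : orderOf t = 2)
    (hC : Nat.card (centralizer ({t} : Set G)) = 39916800) (hθ : θ tt = t) : Function.Bijective θ := by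
  haveI := certData.simple
  haveI := certData.facts.1
  have hinj : Function.Injective θ := by
    rw [← MonoidHom.ker_eq_bot_iff]
    refine (θ.normal_ker.eq_bot_or_eq_top).resolve_right fun h => ?_
    have : θ tt = 1 := MonoidHom.mem_ker.1 (h ▸ mem_top tt)
    rw [← hθ, this, orderOf_one] at ht
    norm_num at ht
  have hDD : DD.map θ = centralizer ({t} : Set G) := by
    refine Subgroup.eq_of_le_of_card_ge ?_ ?_
    · rintro _ ⟨d, hd, rfl⟩
      rw [mem_centralizer_singleton_iff, ← hθ, ← map_mul, ← map_mul, tt_central hd]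
    · rw [hC, card_map_of_injective hinj, card_DD]
  refine ⟨hinj, MonoidHom.range_eq_top.1 (top_of θ.range ht ⟨tt, hθ⟩ ?_ hC ?_ ?_ ?_)⟩
  · rw [← hDD]
    exact map_le_range θ DD
  · rw [← Nat.card_congr (MonoidHom.ofInjective hinj).toEquiv, certData.facts.2.1]
  · rintro _ ⟨a, rfl⟩ ha
    rw [orderOf_injective θ hinj] at ha
    obtain ⟨c, hc⟩ := isConj_iff.1 (one_class ha)
    exact ⟨θ c, ⟨c, rfl⟩, by rw [← hθ, ← map_inv, ← map_mul, ← map_mul, hc]⟩
  · rintro _ ⟨a, rfl⟩ _ ⟨b, rfl⟩ ha hb e
    rw [orderOf_injective θ hinj] at ha hb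
    rw [← map_mul, ← map_mul] at e
    exact no_commute ha hb (hinj e)

end Cfsg.Agent.LyRec
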